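import Cfsg.Agent.Factorizations.Basic
import Cfsg.Agent.Coprime.Action
import Cfsg.Agent.Solvable.Nilpotent
import Cfsg.Agent.Supersolvable.Basic

/-!
Products of two abelian subgroups: Itô's theorem, and a normal subgroup inside a factor.
-/

open Pointwise
open scoped commutatorElement

namespace CfsgLib.Factorizations

universe u

variable {G : Type u} [Group G] {A B : Subgroup G}

theorem conj_commutator_right [IsMulCommutative A] {a b a₁ a₂ b₂ : G} (ha : a ∈ A) (ha₁ : a₁ ∈ A)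
    (ha₂ : a₂ ∈ A) (e : a₁ * b * a₁⁻¹ = b₂ * a₂) : a₁ * ⁅a, b⁆ * a₁⁻¹ = ⁅a, b₂⁆ := by
  have h1 : a₁ * a = a * a₁ := setLike_mul_comm (s := A) ha₁ ha
  have h2 : a₂ * a = a * a₂ := setLike_mul_comm (s := A) ha₂ ha
  calc a₁ * ⁅a, b⁆ * a₁⁻¹ = (a₁ * a * a₁⁻¹) * (a₁ * b * a₁⁻¹) * (a₁ * a * a₁⁻¹)⁻¹ *
      (a₁ * b * a₁⁻¹)⁻¹ := by rw [commutatorElement_def]; group
    _ = a * (b₂ * a₂) * a⁻¹ * (b₂ * a₂)⁻¹ := by rw [h1, mul_inv_cancel_right, e]
    _ = a * b₂ * (a * (a₂⁻¹ * a₂) * (a⁻¹ * a₂ * a⁻¹⁻¹ * a₂⁻¹))⁻¹ * b₂⁻¹ := by group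
    _ = ⁅a, b₂⁆ := by
      rw [inv_mul_cancel, mul_one, setLike_mul_comm (s := A) (inv_mem ha) ha₂,
        mul_inv_cancel_right, mul_inv_cancel, mul_one, commutatorElement_def]

theorem conj_commutator_left [IsMulCommutative B] {a b b₁ a₃ b₃ : G} (hb : b ∈ B) (hb₁ : b₁ ∈ B)
    (hb₃ : b₃ ∈ B) (e : b₁ * a * b₁⁻¹ = a₃ * b₃) : b₁ * ⁅a, b⁆ * b₁⁻¹ = ⁅a₃, b⁆ := by
  have h1 : b₁ * b = b * b₁ := setLike_mul_comm (s := B) hb₁ hb
  have h2 : b₃ * b = b * b₃ := setLike_mul_comm (s := B) hb₃ hb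
  calc b₁ * ⁅a, b⁆ * b₁⁻¹ = (b₁ * a * b₁⁻¹) * (b₁ * b * b₁⁻¹) * (b₁ * a * b₁⁻¹)⁻¹ *
      (b₁ * b * b₁⁻¹)⁻¹ := by rw [commutatorElement_def]; group
    _ = (a₃ * b₃) * b * (a₃ * b₃)⁻¹ * b⁻¹ := by rw [h1, mul_inv_cancel_right, e]
    _ = a₃ * (b₃ * b) * b₃⁻¹ * a₃⁻¹ * b⁻¹ := by group
    _ = ⁅a₃, b⁆ := by rw [h2, commutatorElement_def]; group

/-- **Itô**: a product of two abelian subgroups is metabelian. -/
theorem derivedSeries_two_eq_bot [IsMulCommutative A] [IsMulCommutative B] (hAB : Factors A B) :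
    derivedSeries G 2 = ⊥ := by
  set gens := {z : G | ∃ a ∈ A, ∃ b ∈ B, z = ⁅a, b⁆} with hgens
  set S := Subgroup.closure gens with hS
  have hnorm : ∀ g : G, ∀ z ∈ gens, g * z * g⁻¹ ∈ gens := by
    rintro g _ ⟨a, ha, b, hb, rfl⟩
    obtain ⟨a₁, ha₁, b₁, hb₁, rfl⟩ := hAB g
    obtain ⟨a₃, ha₃, b₃, hb₃, e⟩ := hAB (b₁ * a * b₁⁻¹)
    obtain ⟨b₂, hb₂, a₂, ha₂, e'⟩ := hAB.symm (a₁ * b * a₁⁻¹)
    refine ⟨a₃, ha₃, b₂, hb₂, ?_⟩
    rw [← conj_commutator_right ha₃ ha₁ ha₂ e', ← conj_commutator_left hb hb₁ hb₃ e]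
    group
  have hcomm : ∀ y ∈ gens, ∀ z ∈ gens, y * z = z * y := by
    rintro _ ⟨u, hu, v, hv, rfl⟩ _ ⟨a, ha, b, hb, rfl⟩
    obtain ⟨a₃, ha₃, b₃, hb₃, e⟩ := hAB (v⁻¹ * a * v⁻¹⁻¹)
    obtain ⟨b₂, hb₂, a₂, ha₂, e'⟩ := hAB.symm (u⁻¹ * b * u⁻¹⁻¹)
    have h1 : v⁻¹ * ⁅a, b⁆ * v⁻¹⁻¹ = ⁅a₃, b⁆ := conj_commutator_left hb (inv_mem hv) hb₃ e
    have h2 : u⁻¹ * ⁅a₃, b⁆ * u⁻¹⁻¹ = ⁅a₃, b₂⁆ := conj_commutator_right ha₃ (inv_mem hu) ha₂ e'
    have h3 : u⁻¹ * ⁅a, b⁆ * u⁻¹⁻¹ = ⁅a, b₂⁆ := conj_commutator_right ha (inv_mem hu) ha₂ e'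
    have h4 : v⁻¹ * ⁅a, b₂⁆ * v⁻¹⁻¹ = ⁅a₃, b₂⁆ := conj_commutator_left hb₂ (inv_mem hv) hb₃ e
    have h5 : u⁻¹ * (v⁻¹ * ⁅a, b⁆ * v⁻¹⁻¹) * u⁻¹⁻¹ = v⁻¹ * (u⁻¹ * ⁅a, b⁆ * u⁻¹⁻¹) * v⁻¹⁻¹ := by
      rw [h1, h2, h3, h4]
    have key : ⁅u, v⁆ * ⁅a, b⁆ * ⁅u, v⁆⁻¹ = ⁅a, b⁆ := by
      calc ⁅u, v⁆ * ⁅a, b⁆ * ⁅u, v⁆⁻¹
          = u * v * (u⁻¹ * (v⁻¹ * ⁅a, b⁆ * v⁻¹⁻¹) * u⁻¹⁻¹) * v⁻¹ * u⁻¹ := by
            simp only [commutatorElement_def]; group
        _ = u * v * (v⁻¹ * (u⁻¹ * ⁅a, b⁆ * u⁻¹⁻¹) * v⁻¹⁻¹) * v⁻¹ * u⁻¹ := by rw [h5]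
        _ = ⁅a, b⁆ := by group
    exact mul_inv_eq_iff_eq_mul.mp key
  have hSn : S.Normal := by
    refine ⟨fun x hx g => ?_⟩
    induction hx using Subgroup.closure_induction with
    | mem z hz => exact Subgroup.subset_closure (hnorm g z hz)
    | one => simp [S.one_mem]
    | mul x y _ _ hx hy =>
      rw [show g * (x * y) * g⁻¹ = (g * x * g⁻¹) * (g * y * g⁻¹) by group]
      exact S.mul_mem hx hy
    | inv x _ hx =>
      rw [show g * x⁻¹ * g⁻¹ = (g * x * g⁻¹)⁻¹ by group]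
      exact S.inv_mem hx
  have hSc : ⁅S, S⁆ = ⊥ := by
    rw [Subgroup.commutator_eq_bot_iff_le_centralizer, hS, Subgroup.closure_le]
    intro y hy
    refine Subgroup.mem_centralizer_iff.mpr fun z hz => ?_
    induction hz using Subgroup.closure_induction with
    | mem z hz => exact hcomm z hz y hy
    | one => simp
    | mul x z _ _ hx hz => rw [mul_assoc, hz, ← mul_assoc, hx, mul_assoc]
    | inv x _ hx => exact (Commute.inv_left (show Commute x y from hx)).eq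
  have hab : ∀ a ∈ A, ∀ b ∈ B, (a : G ⧸ S) * b = b * a := fun a ha b hb => by
    have h : ((⁅a, b⁆ : G) : G ⧸ S) = 1 :=
      (QuotientGroup.eq_one_iff _).mpr (Subgroup.subset_closure ⟨a, ha, b, hb, rfl⟩)
    rw [← QuotientGroup.mk'_apply, map_commutatorElement, commutatorElement_eq_one_iff_mul_comm] at h
    exact h
  have hder : commutator G ≤ S := by
    rw [commutator_def, Subgroup.commutator_le]
    intro x _ y _
    obtain ⟨a, ha, b, hb, rfl⟩ := hAB x
    obtain ⟨c, hc, d, hd, rfl⟩ := hAB y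
    rw [← QuotientGroup.eq_one_iff, ← QuotientGroup.mk'_apply, map_commutatorElement,
      commutatorElement_eq_one_iff_mul_comm]
    simp only [map_mul, QuotientGroup.mk'_apply]
    have e1 : (a : G ⧸ S) * c = c * a := by
      rw [← QuotientGroup.mk_mul, ← QuotientGroup.mk_mul, setLike_mul_comm (s := A) ha hc]
    have e2 : (b : G ⧸ S) * d = d * b := by
      rw [← QuotientGroup.mk_mul, ← QuotientGroup.mk_mul, setLike_mul_comm (s := B) hb hd]
    exact ((Commute.mul_left (Commute.mul_right e1 (hab a ha d hd))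
      (Commute.mul_right (hab c hc b hb).symm e2)).eq)
  rw [eq_bot_iff, ← hSc, show (2 : ℕ) = 1 + 1 from rfl, derivedSeries_succ, derivedSeries_one]
  exact Subgroup.commutator_mono hder hder

variable [Finite G]

/-- An element of the derived group centralised by a factor gives a normal subgroup in a factor. -/
theorem exists_normal_of_fixed [IsMulCommutative A] [IsMulCommutative B] (hAB : Factors A B)
    {c : G} (hc : c ∈ commutator G) (hc1 : c ≠ 1) (hcA : c ∈ Subgroup.centralizer (A : Set G)) :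
    ∃ N : Subgroup G, N.Normal ∧ N ≠ ⊥ ∧ (N ≤ A ∨ N ≤ B) := by
  set M := A ⊔ commutator G with hM
  have hMn : M.Normal := Subgroup.Normal.of_commutator_le G le_sup_right
  have hab : ⁅commutator G, commutator G⁆ = ⊥ := by
    rw [← derivedSeries_two_eq_bot hAB, show (2 : ℕ) = 1 + 1 from rfl, derivedSeries_succ,
      derivedSeries_one]
  set Z := M ⊓ Subgroup.centralizer (M : Set G) with hZ
  have hZc : c ∈ Z := by
    refine ⟨Subgroup.mem_sup_right hc, Subgroup.le_centralizer_iff.mp (sup_le ?_ ?_)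
      (Subgroup.mem_zpowers c)⟩
    · exact Subgroup.le_centralizer_iff.mp (Subgroup.zpowers_le.mpr hcA)
    · exact Subgroup.le_centralizer_iff.mp (Subgroup.zpowers_le.mpr
        (Subgroup.commutator_eq_bot_iff_le_centralizer.mp hab hc))
  by_cases hZA : Z ≤ A
  · exact ⟨Z, inferInstance, fun h => hc1 (by rwa [h, Subgroup.mem_bot] at hZc), Or.inl hZA⟩
  obtain ⟨z, hz, hzA⟩ := SetLike.not_le_iff_exists.mp hZA
  obtain ⟨a, ha, b, hb, rfl⟩ := hAB z
  have hb1 : b ≠ 1 := fun h => hzA (by simpa [h] using ha)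
  have hbc : ∀ g : G, Commute b g := by
    intro g
    obtain ⟨a', ha', b', hb', rfl⟩ := hAB g
    refine Commute.mul_right ?_ (setLike_mul_comm (s := B) hb hb')
    have h1 : Commute (a * b) a' := (Subgroup.mem_centralizer_iff.mp hz.2 a'
      (Subgroup.mem_sup_left ha')).symm
    have h2 : Commute a⁻¹ a' := (setLike_mul_comm (s := A) (inv_mem ha) ha' : _)
    have h3 := Commute.mul_left h2 h1
    rwa [inv_mul_cancel_left] at h3
  refine ⟨Subgroup.zpowers b, ⟨fun x hx g => ?_⟩, by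
    rwa [Ne, Subgroup.zpowers_eq_bot], Or.inr (Subgroup.zpowers_le.mpr hb)⟩
  obtain ⟨k, rfl⟩ := Subgroup.mem_zpowers_iff.mp hx
  rw [((hbc g).zpow_left k).eq.symm, mul_inv_cancel_right]
  exact hx

/-- An abelian group acting on a `p`-group without nontrivial fixed points: so does its `p'`-part. -/
theorem inf_centralizer_hall_eq_bot [IsMulCommutative A] {p : ℕ} [Fact p.Prime] {N : Subgroup G}
    [N.Normal] (hN : IsPGroup p N) (hfix : N ⊓ Subgroup.centralizer (A : Set G) = ⊥)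
    {Q : Subgroup A} (hQ : Cfsg.IsPiHall {q | q ≠ p} Q) :
    N ⊓ Subgroup.centralizer ((Q.map A.subtype : Subgroup G) : Set G) = ⊥ := by
  by_contra hne
  set Q' := Q.map A.subtype with hQ'
  set U := N ⊓ Subgroup.centralizer (Q' : Set G) with hU
  obtain ⟨S⟩ : Nonempty (Sylow p A) := inferInstance
  set P := (S : Subgroup A).map A.subtype with hP
  have hUp : IsPGroup p U := hN.to_le inf_le_left
  have hPA : P ≤ A := Subgroup.map_subtype_le _
  have hQA : Q' ≤ A := Subgroup.map_subtype_le _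
  have hPU : P ≤ Subgroup.normalizer (U : Set G) := by
    intro x hx
    rw [Solvable.mem_normalizer_iff_conj_smul]
    refine Subgroup.eq_of_le_of_card_ge (fun y hy => ?_) (Solvable.card_conj_smul x U).ge
    rw [Solvable.mem_conj_smul] at hy
    refine ⟨?_, Subgroup.mem_centralizer_iff.mpr fun q hq => ?_⟩
    · have := Subgroup.Normal.conj_mem (inferInstance : N.Normal) _ hy.1 x
      simpa [mul_assoc] using this
    · have h1 := Subgroup.mem_centralizer_iff.mp hy.2 q hq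
      have h2 : x * q = q * x := setLike_mul_comm (s := A) (hPA hx) (hQA hq)
      calc q * y = q * x * (x⁻¹ * y * x) * x⁻¹ := by group
        _ = x * (q * (x⁻¹ * y * x)) * x⁻¹ := by rw [← h2]; group
        _ = x * ((x⁻¹ * y * x) * q) * x⁻¹ := by rw [h1]
        _ = y * (x * q) * x⁻¹ := by group
        _ = y * q := by rw [h2, ← mul_assoc, mul_inv_cancel_right]
  have hW : IsPGroup p (U ⊔ P : Subgroup G) :=
    hUp.to_sup_of_normal_left' (S.2.map A.subtype) hPU
  have : Group.IsNilpotent (U ⊔ P : Subgroup G) := hW.isNilpotent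
  have hUn : (U.subgroupOf (U ⊔ P)).Normal :=
    (Subgroup.normal_subgroupOf_iff_le_normalizer le_sup_left).mpr (sup_le Subgroup.le_normalizer hPU)
  have h3 := Solvable.inf_center_ne_bot (G := (U ⊔ P : Subgroup G)) (N := U.subgroupOf (U ⊔ P))
    fun h => hne (by rwa [Subgroup.subgroupOf_eq_bot, disjoint_iff,
      inf_eq_left.mpr (le_sup_left : U ≤ U ⊔ P)] at h)
  obtain ⟨x, hx, hx1⟩ := (Subgroup.bot_or_exists_ne_one _).resolve_left h3
  refine hx1 (Subtype.ext ?_)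
  have hxU : (x : G) ∈ U := hx.1
  have hgen : A ≤ P ⊔ Q' := by
    have htop : (S : Subgroup A) ⊔ Q = ⊤ := by
      rw [← Subgroup.index_eq_one]
      by_contra h
      obtain ⟨r, hr, hrd⟩ := Nat.exists_prime_and_dvd h
      by_cases hrp : r = p
      · subst hrp
        exact S.not_dvd_index (hrd.trans (Subgroup.index_dvd_of_le le_sup_left))
      · exact hQ.2 r hr hrp (hrd.trans (Subgroup.index_dvd_of_le le_sup_right))
    rw [hP, hQ', ← Subgroup.map_sup, htop, ← MonoidHom.range_eq_map, Subgroup.range_subtype]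
  have h4 : (x : G) ∈ N ⊓ Subgroup.centralizer (A : Set G) := by
    refine ⟨hxU.1, Subgroup.centralizer_le hgen ?_⟩
    refine Subgroup.le_centralizer_iff.mp (sup_le ?_ ?_) (Subgroup.mem_zpowers (x : G))
    · intro y hy
      refine Subgroup.mem_centralizer_iff.mpr fun w hw => ?_
      obtain ⟨k, rfl⟩ := Subgroup.mem_zpowers_iff.mp hw
      exact ((show Commute (x : G) y from (congrArg Subtype.val
        (Subgroup.mem_center_iff.mp hx.2 ⟨y, Subgroup.mem_sup_right hy⟩)).symm).zpow_left k).eq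
    · exact Subgroup.le_centralizer_iff.mp (Subgroup.zpowers_le.mpr hxU.2)
  rwa [hfix, Subgroup.mem_bot] at h4

/-- A product of two abelian subgroups has a nontrivial normal subgroup inside a factor. -/
theorem exists_normal_le_factor [Nontrivial G] [IsMulCommutative A] [IsMulCommutative B]
    (hAB : Factors A B) : ∃ N : Subgroup G, N.Normal ∧ N ≠ ⊥ ∧ (N ≤ A ∨ N ≤ B) := by
  by_cases hder : commutator G = ⊥
  · have hnorm : ∀ C : Subgroup G, C.Normal := fun C =>
      Subgroup.Normal.of_commutator_le G (hder.le.trans bot_le)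
    by_cases hA : A = ⊥
    · refine ⟨B, hnorm B, fun hB => ?_, Or.inr le_rfl⟩
      obtain ⟨x, y, hxy⟩ := exists_pair_ne G
      have h1 : ∀ g : G, g = 1 := fun g => by
        obtain ⟨a, ha, b, hb, rfl⟩ := hAB g
        rw [hA, Subgroup.mem_bot] at ha
        rw [hB, Subgroup.mem_bot] at hb
        rw [ha, hb, one_mul]
      exact hxy ((h1 x).trans (h1 y).symm)
    · exact ⟨A, hnorm A, hA, Or.inl le_rfl⟩
  by_contra hcon
  have hsolv : Group.IsSolvable G := ⟨⟨2, derivedSeries_two_eq_bot hAB⟩⟩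
  obtain ⟨N, hN, hNne, hNle, hNmin⟩ :=
    Solvable.exists_minimal_normal_le (inferInstance : (commutator G).Normal) hder
  obtain ⟨p, hp, hNp⟩ := Solvable.exists_isPGroup_of_minimal_normal hNne hNmin
  have := Fact.mk hp
  have := Solvable.isMulCommutative_of_minimal_normal hNne hNmin
  have hsymm : Factors B A := hAB.symm
  have hfixA : N ⊓ Subgroup.centralizer (A : Set G) = ⊥ := by
    refine (Subgroup.eq_bot_iff_forall _).mpr fun c hc => by_contra fun hc1 =>
      hcon (exists_normal_of_fixed hAB (hNle hc.1) hc1 hc.2)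
  have hfixB : N ⊓ Subgroup.centralizer (B : Set G) = ⊥ := by
    refine (Subgroup.eq_bot_iff_forall _).mpr fun c hc => by_contra fun hc1 => ?_
    obtain ⟨M, hM, hMne, hM'⟩ := exists_normal_of_fixed hsymm (hNle hc.1) hc1 hc.2
    exact hcon ⟨M, hM, hMne, hM'.symm⟩
  obtain ⟨QA, hQA⟩ := Solvable.exists_isPiHall {q : ℕ | q ≠ p} A
  obtain ⟨QB, hQB⟩ := Solvable.exists_isPiHall {q : ℕ | q ≠ p} B
  have hCA := inf_centralizer_hall_eq_bot hNp hfixA hQA
  have hCB := inf_centralizer_hall_eq_bot hNp hfixB hQB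
  set QA' := QA.map A.subtype with hQA'
  set QB' := QB.map B.subtype with hQB'
  -- a common `p'`-subgroup containing both `p'`-parts
  have hpi : ∀ {C : Subgroup G} (Q : Subgroup C), Cfsg.IsPiHall {q : ℕ | q ≠ p} Q →
      Cfsg.IsPiSubgroup {q : ℕ | q ≠ p} (Q.map C.subtype) := fun {C} Q hQ => by
    unfold Cfsg.IsPiSubgroup
    rw [Subgroup.card_map_of_injective C.subtype_injective]
    exact hQ.1
  obtain ⟨H₀, hH₀, hAH₀⟩ := Solvable.exists_isPiHall_ge (hpi QA hQA)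
  obtain ⟨z, hz⟩ := Solvable.exists_conj_le_isPiHall hH₀ (hpi QB hQB)
  obtain ⟨a, ha, b, hb, rfl⟩ := hAB z
  have hfix : ∀ {C : Subgroup G} (Q : Subgroup C) (g : G), IsMulCommutative C → g ∈ C →
      MulAut.conj g • Q.map C.subtype = Q.map C.subtype := fun {C} Q g hC hg => by
    haveI := hC
    ext y
    rw [Solvable.mem_conj_smul]
    constructor
    · intro hy
      have hyC : g⁻¹ * y * g ∈ C := Subgroup.map_subtype_le _ hy
      have hy' : y ∈ C := by simpa [mul_assoc] using C.mul_mem (C.mul_mem hg hyC) (C.inv_mem hg)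
      rwa [mul_assoc, setLike_mul_comm (s := C) hy' hg, inv_mul_cancel_left] at hy
    · intro hy
      rwa [mul_assoc, setLike_mul_comm (s := C) (Subgroup.map_subtype_le _ hy) hg,
        inv_mul_cancel_left]
  rw [map_mul, mul_smul, hfix QB b inferInstance hb] at hz
  set H := MulAut.conj a⁻¹ • H₀ with hH
  have hAH : QA' ≤ H := by
    rw [hH, le_conj_smul_iff, inv_inv, hfix QA a inferInstance ha]
    exact hAH₀
  have hBH : QB' ≤ H := by rw [hH, le_conj_smul_iff, inv_inv]; exact hz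
  have hHcop : (Nat.card H).Coprime (Nat.card N) := by
    refine Solvable.coprime_of_piNat (Solvable.isPiHall_conj_smul hH₀ a⁻¹).1 fun r hr hrp hrN => hrp ?_
    obtain ⟨k, hk⟩ := hNp.exists_card_eq
    rw [hk] at hrN
    exact (Nat.prime_dvd_prime_iff_eq hr hp).mp (hr.dvd_of_dvd_pow hrN)
  -- `(A N) ⊓ (B N)` is central modulo `N`
  have hNA : ¬ N ≤ A := fun h => hcon ⟨N, hN, hNne, Or.inl h⟩
  obtain ⟨n, hn, hnA⟩ := SetLike.not_le_iff_exists.mp hNA
  obtain ⟨a₀, ha₀, b₀, hb₀, e₀⟩ := hAB n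
  have hmem : ∀ g : G, Commute ((b₀ : G) : G ⧸ N) (g : G ⧸ N) := by
    intro g
    obtain ⟨a', ha', b', hb', rfl⟩ := hAB g
    rw [QuotientGroup.mk_mul]
    refine Commute.mul_right ?_ ?_
    · have h1 : ((b₀ : G) : G ⧸ N) = ((a₀⁻¹ : G) : G ⧸ N) := by
        rw [QuotientGroup.mk_inv, eq_inv_iff_mul_eq_one]
        have h2 : ((a₀ : G) : G ⧸ N) * (b₀ : G ⧸ N) = 1 := by
          rw [← QuotientGroup.mk_mul, ← e₀]; exact (QuotientGroup.eq_one_iff n).mpr hn
        rw [eq_inv_of_mul_eq_one_left h2, mul_inv_cancel]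
      rw [h1]
      change ((a₀⁻¹ : G) : G ⧸ N) * (a' : G ⧸ N) = _
      rw [← QuotientGroup.mk_mul, ← QuotientGroup.mk_mul,
        setLike_mul_comm (s := A) (inv_mem ha₀) ha']
    · change ((b₀ : G) : G ⧸ N) * (b' : G ⧸ N) = _
      rw [← QuotientGroup.mk_mul, ← QuotientGroup.mk_mul, setLike_mul_comm (s := B) hb₀ hb']
  obtain ⟨c, hcH, hcN⟩ := Coprime.exists_fixed_mem_coset (A := H) (N := N)
    Subgroup.le_normalizer_of_normal hHcop (Or.inr inferInstance) (k := b₀) fun h _ => by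
      rw [← QuotientGroup.eq_one_iff, QuotientGroup.mk_mul, QuotientGroup.mk_mul,
        QuotientGroup.mk_mul, QuotientGroup.mk_inv, QuotientGroup.mk_inv, ← (hmem h).eq,
        mul_inv_cancel_right, inv_mul_cancel]
  -- `c` equals both `b₀` and `a₀⁻¹`
  have hcb : c = b₀ := by
    have h1 : b₀⁻¹ * c ∈ N ⊓ Subgroup.centralizer (QB' : Set G) := by
      refine ⟨hcN, Subgroup.mul_mem _ (Subgroup.inv_mem _
        (Subgroup.mem_centralizer_iff.mpr fun q hq => ?_)) (Subgroup.centralizer_le hBH hcH)⟩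
      exact setLike_mul_comm (s := B) (Subgroup.map_subtype_le _ hq) hb₀
    rw [hCB, Subgroup.mem_bot, inv_mul_eq_one] at h1
    exact h1.symm
  have hca : c = a₀⁻¹ := by
    have h1 : a₀ * c ∈ N ⊓ Subgroup.centralizer (QA' : Set G) := by
      refine ⟨?_, mul_mem (Subgroup.mem_centralizer_iff.mpr fun q hq => ?_)
        (Subgroup.centralizer_le hAH hcH)⟩
      · rw [hcb, ← e₀]; exact hn
      · exact setLike_mul_comm (s := A) (Subgroup.map_subtype_le _ hq) ha₀
    rw [hCA, Subgroup.mem_bot, mul_eq_one_iff_inv_eq] at h1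
    exact h1.symm
  apply hnA
  rw [e₀, ← hcb, hca, mul_inv_cancel]
  exact A.one_mem

omit [Finite G] in
private theorem supersolvable_aux : ∀ (m : ℕ) (G : Type u) [Group G] [Finite G],
    Nat.card G < m → ∀ A B : Subgroup G, IsCyclic A → IsCyclic B → Factors A B →
      Cfsg.IsSupersolvable G := by
  intro m
  induction m with
  | zero => intro G _ _ h; exact absurd h (Nat.not_lt_zero _)
  | succ m ih =>
    intro G _ _ hm A B hA hB hAB
    rcases subsingleton_or_nontrivial G with hs | hs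
    · exact Supersolvable.of_subsingleton
    haveI := hA
    haveI := hB
    have : IsMulCommutative A := ⟨⟨fun x y => (IsCyclic.commGroup (α := A)).mul_comm x y⟩⟩
    have : IsMulCommutative B := ⟨⟨fun x y => (IsCyclic.commGroup (α := B)).mul_comm x y⟩⟩
    obtain ⟨N, hN, hne, hle⟩ := exists_normal_le_factor hAB
    have hNc : IsCyclic N := by
      rcases hle with h | h
      · exact isCyclic_of_surjective (Subgroup.subgroupOfEquivOfLe h).toMonoidHom
          (Subgroup.subgroupOfEquivOfLe h).surjective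
      · exact isCyclic_of_surjective (Subgroup.subgroupOfEquivOfLe h).toMonoidHom
          (Subgroup.subgroupOfEquivOfLe h).surjective
    refine Supersolvable.of_quotient N (ih (G ⧸ N) ?_ (A.map (QuotientGroup.mk' N))
      (B.map (QuotientGroup.mk' N)) ?_ ?_ ?_)
    · refine lt_of_lt_of_le ?_ (Nat.lt_succ_iff.mp hm)
      rw [N.card_eq_card_quotient_mul_card_subgroup]
      exact (Nat.lt_mul_iff_one_lt_right Nat.card_pos).mpr
        (Subgroup.one_lt_card_iff_ne_bot N |>.mpr hne)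
    · exact isCyclic_of_surjective _ ((QuotientGroup.mk' N).subgroupMap_surjective A)
    · exact isCyclic_of_surjective _ ((QuotientGroup.mk' N).subgroupMap_surjective B)
    · intro x
      obtain ⟨g, rfl⟩ := QuotientGroup.mk'_surjective N x
      obtain ⟨a, ha, b, hb, rfl⟩ := hAB g
      exact ⟨_, Subgroup.mem_map_of_mem _ ha, _, Subgroup.mem_map_of_mem _ hb, map_mul _ _ _⟩

/-- A product of two cyclic groups is supersolvable. -/
theorem isSupersolvable_of_cyclic [IsCyclic A] [IsCyclic B] (hAB : Factors A B) :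
    Cfsg.IsSupersolvable G :=
  supersolvable_aux _ G (Nat.lt_succ_self _) A B ‹_› ‹_› hAB

end CfsgLib.Factorizations
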