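import Cfsg.Agent.Solvable.Hall

/-!
Factorizations `G = H K` of finite groups: Sylow subgroups and Hall subgroups of the factors.
-/

open Pointwise

namespace CfsgLib.Factorizations

variable {G : Type*} [Group G]

/-- Every element is a product of an element of `H` and an element of `K`. -/
def Factors (H K : Subgroup G) : Prop := ∀ g : G, ∃ h ∈ H, ∃ k ∈ K, g = h * k

theorem Factors.symm {H K : Subgroup G} (h : Factors H K) : Factors K H := fun g => by
  obtain ⟨a, ha, b, hb, e⟩ := h g⁻¹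
  exact ⟨b⁻¹, inv_mem hb, a⁻¹, inv_mem ha, by rw [← mul_inv_rev, ← e, inv_inv]⟩

theorem conj_smul_eq_of_mem {H : Subgroup G} {h : G} (hh : h ∈ H) : MulAut.conj h • H = H :=
  Solvable.mem_normalizer_iff_conj_smul.mp (Subgroup.le_normalizer hh)

theorem le_conj_smul_iff {A D : Subgroup G} {g : G} :
    A ≤ MulAut.conj g • D ↔ MulAut.conj g⁻¹ • A ≤ D := by
  rw [map_inv, Subgroup.subset_pointwise_smul_iff]

/-- Conjugates of the two factors are conjugates by one element. -/
theorem Factors.exists_conj {H K : Subgroup G} (h : Factors H K) (x y : G) :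
    ∃ g a : G, ∃ b : G, a ∈ H ∧ b ∈ K ∧ g = x * a ∧ g = y * b := by
  obtain ⟨a, ha, k, hk, e⟩ := h (x⁻¹ * y)
  exact ⟨x * a, a, k⁻¹, ha, inv_mem hk, rfl, by rw [inv_mul_eq_iff_eq_mul.mp e]; group⟩

theorem Factors.conj {H K : Subgroup G} (h : Factors H K) (g : G) :
    Factors (MulAut.conj g • H) (MulAut.conj g • K) := fun x => by
  obtain ⟨a, ha, b, hb, e⟩ := h (g⁻¹ * x * g)
  refine ⟨g * a * g⁻¹, Solvable.conj_mem_conj_smul ha, g * b * g⁻¹,
    Solvable.conj_mem_conj_smul hb, ?_⟩
  rw [show g * a * g⁻¹ * (g * b * g⁻¹) = g * (a * b) * g⁻¹ by group, ← e]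
  group

variable [Finite G]

theorem card_mul_eq (H K : Subgroup G) :
    Nat.card ((H : Set G) * (K : Set G) : Set G) * Nat.card (H ⊓ K : Subgroup G) =
      Nat.card H * Nat.card K := by
  have h1 : Nat.card ((H : Set G) * (K : Set G) : Set G) = K.relIndex H * Nat.card K := by
    rw [Subgroup.relIndex, Subgroup.index_eq_card]
    rw [Subgroup.card_mul_eq_card_subgroup_mul_card_quotient, mul_comm]
    congr 1
    refine (Nat.card_congr (Equiv.ofBijective (Quotient.lift (fun a : H =>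
      (⟨QuotientGroup.mk (a : G), Set.mem_image_of_mem _ a.2⟩ :
        ((fun x : G => (x : G ⧸ K)) '' (H : Set G) : Set (G ⧸ K)))) ?_) ⟨?_, ?_⟩)).symm
    · intro a b hab
      exact Subtype.ext (QuotientGroup.eq.mpr (Subgroup.mem_subgroupOf.mp
        (QuotientGroup.leftRel_apply.mp hab) : ((a⁻¹ * b : H) : G) ∈ K))
    · rintro ⟨a⟩ ⟨b⟩ hab
      exact Quotient.sound (QuotientGroup.leftRel_apply.mpr (Subgroup.mem_subgroupOf.mpr
        (QuotientGroup.eq.mp (congrArg Subtype.val hab : (QuotientGroup.mk (a : G) : G ⧸ K) = _))))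
    · rintro ⟨_, a, ha, rfl⟩
      exact ⟨QuotientGroup.mk ⟨a, ha⟩, rfl⟩
  have h2 := (K.subgroupOf H).card_mul_index
  rw [← Subgroup.relIndex, ← Subgroup.inf_subgroupOf_left,
    Nat.card_congr (Subgroup.subgroupOfEquivOfLe (inf_le_left : H ⊓ K ≤ H)).toEquiv] at h2
  rw [h1, mul_right_comm, ← h2]
  ring

theorem Factors.card_eq {H K : Subgroup G} (h : Factors H K) :
    Nat.card G * Nat.card (H ⊓ K : Subgroup G) = Nat.card H * Nat.card K := by
  have : ((H : Set G) * (K : Set G)) = Set.univ := Set.eq_univ_of_forall fun g => by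
    obtain ⟨a, ha, b, hb, e⟩ := h g
    exact ⟨a, ha, b, hb, e.symm⟩
  rw [← card_mul_eq, this, Nat.card_univ]

/-- A product set inside a subgroup is everything as soon as its order is large enough. -/
theorem coe_eq_mul_of_card_le {P Q R : Subgroup G} (hP : P ≤ R) (hQ : Q ≤ R)
    (h : Nat.card R * Nat.card (P ⊓ Q : Subgroup G) ≤ Nat.card P * Nat.card Q) :
    (R : Set G) = (P : Set G) * (Q : Set G) := by
  have hsub : (P : Set G) * (Q : Set G) ⊆ R := by
    rintro _ ⟨a, ha, b, hb, rfl⟩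
    exact R.mul_mem (hP ha) (hQ hb)
  refine (Set.eq_of_subset_of_ncard_le hsub ?_ (Set.toFinite _)).symm
  rw [← card_mul_eq P Q] at h
  exact Nat.le_of_mul_le_mul_right h Nat.card_pos

theorem exists_sylow_product {H K : Subgroup G} (hHK : Factors H K) (p : ℕ) [Fact p.Prime] :
    ∃ (P : Sylow p H) (Q : Sylow p K) (R : Sylow p G), ((R : Subgroup G) : Set G) =
      (((P : Subgroup H).map H.subtype : Subgroup G) : Set G) *
        (((Q : Subgroup K).map K.subtype : Subgroup G) : Set G) := by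
  obtain ⟨P₀⟩ : Nonempty (Sylow p H) := inferInstance
  obtain ⟨Q₀⟩ : Nonempty (Sylow p K) := inferInstance
  obtain ⟨R₁, hR₁⟩ := (P₀.2.map H.subtype).exists_le_sylow
  obtain ⟨R₂, hR₂⟩ := (Q₀.2.map K.subtype).exists_le_sylow
  obtain ⟨z, hz⟩ := MulAction.exists_smul_eq G R₁ R₂
  obtain ⟨k, hk, h, hh, rfl⟩ := hHK.symm z
  set R := h • R₁ with hR
  have hP : ((⟨h, hh⟩ : H) • P₀ : Sylow p H).1.map H.subtype ≤ (R : Subgroup G) := by
    rw [Sylow.coe_subgroup_smul, hR, Sylow.coe_subgroup_smul]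
    change (MulAut.conj (⟨h, hh⟩ : H) • (P₀ : Subgroup H)).map H.subtype ≤ _
    rw [Solvable.map_subtype_conj_smul]
    exact Subgroup.pointwise_smul_le_pointwise_smul_iff.mpr hR₁
  have hQ : ((⟨k, hk⟩ : K)⁻¹ • Q₀ : Sylow p K).1.map K.subtype ≤ (R : Subgroup G) := by
    rw [Sylow.coe_subgroup_smul]
    change (MulAut.conj (⟨k, hk⟩ : K)⁻¹ • (Q₀ : Subgroup K)).map K.subtype ≤ _
    rw [Solvable.map_subtype_conj_smul, InvMemClass.coe_inv]
    rw [← hz, Sylow.coe_subgroup_smul, map_mul, mul_smul] at hR₂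
    refine (Subgroup.pointwise_smul_le_pointwise_smul_iff.mpr hR₂).trans ?_
    rw [map_inv, inv_smul_smul, hR, Sylow.coe_subgroup_smul]
  refine ⟨(⟨h, hh⟩ : H) • P₀, (⟨k, hk⟩ : K)⁻¹ • Q₀, R, coe_eq_mul_of_card_le hP hQ ?_⟩
  have hp : p.Prime := Fact.out
  set P := ((⟨h, hh⟩ : H) • P₀ : Sylow p H)
  set Q := ((⟨k, hk⟩ : K)⁻¹ • Q₀ : Sylow p K)
  rw [Subgroup.card_map_of_injective H.subtype_injective,
    Subgroup.card_map_of_injective K.subtype_injective, R.card_eq_multiplicity,
    P.card_eq_multiplicity, Q.card_eq_multiplicity]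
  set I := (P : Subgroup H).map H.subtype ⊓ (Q : Subgroup K).map K.subtype
  have hI : IsPGroup p I := (P.2.map H.subtype).to_le inf_le_left
  obtain ⟨i, hi⟩ := hI.exists_card_eq
  have hle : Nat.card I ∣ Nat.card (H ⊓ K : Subgroup G) :=
    Subgroup.card_dvd_of_le (inf_le_inf (Subgroup.map_subtype_le _) (Subgroup.map_subtype_le _))
  rw [hi] at hle ⊢
  have h1 := congrArg (fun n => n.factorization p) hHK.card_eq
  simp only [Nat.factorization_mul Nat.card_pos.ne' Nat.card_pos.ne', Finsupp.add_apply] at h1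
  rw [← pow_add, ← pow_add, ← h1]
  refine Nat.pow_le_pow_right hp.pos (Nat.add_le_add_left ?_ _)
  exact (hp.pow_dvd_iff_le_factorization Nat.card_pos.ne').mp hle

/-- Normal Hall subgroups of the factors of a solvable factorized group permute. -/
theorem exists_eq_mul_of_hall [Group.IsSolvable G] {H K A B : Subgroup G} (hHK : Factors H K)
    (hA : A ≤ H) (hAn : (A.subgroupOf H).Normal) (hB : B ≤ K) (hBn : (B.subgroupOf K).Normal)
    (hAh : (Nat.card A).Coprime A.index) (hBh : (Nat.card B).Coprime B.index) :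
    ∃ S : Subgroup G, (S : Set G) = (A : Set G) * (B : Set G) := by
  have hAn' := (Subgroup.normal_subgroupOf_iff_le_normalizer hA).mp hAn
  have hBn' := (Subgroup.normal_subgroupOf_iff_le_normalizer hB).mp hBn
  set π : Set ℕ := {r | r ∣ Nat.card A ∨ r ∣ Nat.card B}
  obtain ⟨D, hD, hAD⟩ := Solvable.exists_isPiHall_ge (G := G) (π := π) (U := A)
    fun r _ hr => Or.inl hr
  obtain ⟨z, hz⟩ := Solvable.exists_conj_le_isPiHall hD (U := B) fun r _ hr => Or.inr hr
  obtain ⟨a, ha, b, hb, rfl⟩ := hHK z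
  rw [map_mul, mul_smul, Solvable.mem_normalizer_iff_conj_smul.mp (hBn' hb)] at hz
  set S := MulAut.conj a⁻¹ • D with hS
  have hAS : A ≤ S := by
    rw [hS, le_conj_smul_iff, inv_inv, Solvable.mem_normalizer_iff_conj_smul.mp (hAn' ha)]
    exact hAD
  have hBS : B ≤ S := by rw [hS, le_conj_smul_iff, inv_inv]; exact hz
  have hSpi := (Solvable.isPiHall_conj_smul hD a⁻¹).1
  refine ⟨S, coe_eq_mul_of_card_le hAS hBS ?_⟩
  -- common primes: `A ⊓ B` contains a Sylow subgroup
  have hcom : Nat.gcd (Nat.card A) (Nat.card B) ∣ Nat.card (A ⊓ B : Subgroup G) := by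
    rw [← Nat.factorization_le_iff_dvd (Nat.gcd_pos_of_pos_left _ Nat.card_pos).ne'
      Nat.card_pos.ne']
    intro r
    by_cases hr : r.Prime ∧ r ∣ Nat.gcd (Nat.card A) (Nat.card B)
    swap
    · rw [not_and] at hr
      by_cases hrp : r.Prime
      · rw [Nat.factorization_eq_zero_of_not_dvd (hr hrp)]; exact Nat.zero_le _
      · rw [Nat.factorization_eq_zero_of_not_prime _ hrp]; exact Nat.zero_le _
    obtain ⟨hr, hrd⟩ := hr
    have := Fact.mk hr
    obtain ⟨P, Q, R, hR⟩ := exists_sylow_product hHK r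
    -- a Sylow subgroup of a factor lies in its normal Hall subgroup
    have key : ∀ {L C : Subgroup G}, C ≤ L → (C.subgroupOf L).Normal →
        (Nat.card C).Coprime C.index → r ∣ Nat.card C → ∀ X : Sylow r L,
        (X : Subgroup L).map L.subtype ≤ C ∧
          Nat.card ((X : Subgroup L).map L.subtype) = r ^ (Nat.card G).factorization r := by
      intro L C hCL hCn hCh hrC X
      have hrel : ¬ r ∣ C.relIndex L := fun hd => (Nat.Prime.coprime_iff_not_dvd hr).mp
        (hCh.coprime_dvd_left hrC) (hd.trans (Subgroup.relIndex_dvd_index_of_le hCL))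
      refine ⟨?_, ?_⟩
      · rw [← Subgroup.map_subgroupOf_eq_of_le hCL]
        refine Subgroup.map_mono (fun x hx => ?_)
        rw [← QuotientGroup.eq_one_iff, ← orderOf_eq_one_iff]
        have h1 : orderOf (x : L ⧸ C.subgroupOf L) ∣ C.relIndex L := by
          rw [Subgroup.relIndex, Subgroup.index_eq_card]
          exact orderOf_dvd_natCard _
        obtain ⟨i, hi⟩ := (IsPGroup.iff_orderOf.mp X.2) ⟨x, hx⟩
        have h2 : orderOf (x : L ⧸ C.subgroupOf L) ∣ r ^ i := by
          rw [← hi, ← Subgroup.orderOf_coe ⟨x, hx⟩]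
          exact orderOf_map_dvd (QuotientGroup.mk' _) x
        obtain ⟨j, -, hj⟩ := (Nat.dvd_prime_pow hr).mp h2
        rcases Nat.eq_zero_or_pos j with rfl | hj0
        · exact hj.trans (pow_zero _)
        · exact absurd ((dvd_pow_self r hj0.ne').trans (hj ▸ h1)) hrel
      · rw [Subgroup.card_map_of_injective L.subtype_injective, X.card_eq_multiplicity]
        congr 1
        have hidx : ¬ r ∣ L.index := fun hd => (Nat.Prime.coprime_iff_not_dvd hr).mp
          (hCh.coprime_dvd_left hrC) (hd.trans (Subgroup.index_dvd_of_le hCL))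
        rw [← L.card_mul_index, Nat.factorization_mul Nat.card_pos.ne'
          Subgroup.index_ne_zero_of_finite, Finsupp.add_apply,
          Nat.factorization_eq_zero_of_not_dvd hidx, add_zero]
    obtain ⟨hPA, hPc⟩ := key hA hAn hAh (hrd.trans (Nat.gcd_dvd_left _ _)) P
    obtain ⟨hQB, hQc⟩ := key hB hBn hBh (hrd.trans (Nat.gcd_dvd_right _ _)) Q
    have hPR : (P : Subgroup H).map H.subtype = R := Subgroup.eq_of_le_of_card_ge
      (fun x hx => by
        rw [← SetLike.mem_coe, hR]; exact ⟨x, hx, 1, one_mem _, mul_one x⟩)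
      (by rw [hPc, R.card_eq_multiplicity])
    have hQR : (Q : Subgroup K).map K.subtype = R := Subgroup.eq_of_le_of_card_ge
      (fun x hx => by
        rw [← SetLike.mem_coe, hR]; exact ⟨1, one_mem _, x, hx, one_mul x⟩)
      (by rw [hQc, R.card_eq_multiplicity])
    have h1 : Nat.card (R : Subgroup G) ∣ Nat.card (A ⊓ B : Subgroup G) :=
      Subgroup.card_dvd_of_le (le_inf (hPR ▸ hPA) (hQR ▸ hQB))
    rw [R.card_eq_multiplicity] at h1
    refine le_trans ?_ ((hr.pow_dvd_iff_le_factorization Nat.card_pos.ne').mp h1)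
    exact (Nat.factorization_le_iff_dvd (Nat.gcd_pos_of_pos_left _ Nat.card_pos).ne'
      Nat.card_pos.ne').mpr ((Nat.gcd_dvd_left _ _).trans A.card_subgroup_dvd_card) r
  have hS' : Nat.card S ∣ Nat.lcm (Nat.card A) (Nat.card B) := by
    rw [← Nat.factorization_le_iff_dvd Nat.card_pos.ne'
      (Nat.lcm_ne_zero Nat.card_pos.ne' Nat.card_pos.ne')]
    intro r
    by_cases hr : r.Prime ∧ r ∣ Nat.card S
    swap
    · rw [not_and] at hr
      by_cases hrp : r.Prime
      · rw [Nat.factorization_eq_zero_of_not_dvd (hr hrp)]; exact Nat.zero_le _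
      · rw [Nat.factorization_eq_zero_of_not_prime _ hrp]; exact Nat.zero_le _
    obtain ⟨hr, hrd⟩ := hr
    have key : ∀ C : Subgroup G, (Nat.card C).Coprime C.index → r ∣ Nat.card C →
        (Nat.card G).factorization r = (Nat.card C).factorization r := by
      intro C hC hrC
      have hidx : ¬ r ∣ C.index :=
        (Nat.Prime.coprime_iff_not_dvd hr).mp (hC.coprime_dvd_left hrC)
      rw [← C.card_mul_index, Nat.factorization_mul Nat.card_pos.ne'
        Subgroup.index_ne_zero_of_finite, Finsupp.add_apply,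
        Nat.factorization_eq_zero_of_not_dvd hidx, add_zero]
    refine ((Nat.factorization_le_iff_dvd Nat.card_pos.ne' Nat.card_pos.ne').mpr
      S.card_subgroup_dvd_card r).trans ?_
    rcases hSpi r hr hrd with h | h
    · rw [key A hAh h]
      exact (Nat.factorization_le_iff_dvd Nat.card_pos.ne'
        (Nat.lcm_ne_zero Nat.card_pos.ne' Nat.card_pos.ne')).mpr (Nat.dvd_lcm_left _ _) r
    · rw [key B hBh h]
      exact (Nat.factorization_le_iff_dvd Nat.card_pos.ne'
        (Nat.lcm_ne_zero Nat.card_pos.ne' Nat.card_pos.ne')).mpr (Nat.dvd_lcm_right _ _) r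
  have h1 : Nat.card (A ⊓ B : Subgroup G) = Nat.gcd (Nat.card A) (Nat.card B) :=
    Nat.dvd_antisymm (Nat.dvd_gcd (Subgroup.card_dvd_of_le inf_le_left)
      (Subgroup.card_dvd_of_le inf_le_right)) hcom
  rw [h1, ← Nat.gcd_mul_lcm (Nat.card A) (Nat.card B), mul_comm (Nat.gcd _ _)]
  exact Nat.mul_le_mul_right _ (Nat.le_of_dvd (Nat.pos_of_ne_zero
    (Nat.lcm_ne_zero Nat.card_pos.ne' Nat.card_pos.ne')) hS')

end CfsgLib.Factorizations
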