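import Cfsg.Agent.Factorizations.NilpotentCoprime

/-!
The Kegel–Wielandt theorem: a product of two nilpotent subgroups is solvable.
-/

set_option autoImplicit false

open Pointwise

universe u

namespace CfsgLib.Factorizations

variable {G : Type*} [Group G] [Finite G]

/-- A proper normal subgroup containing one of the factors. -/
def HasNormalOver (A B : Subgroup G) : Prop :=
  ∃ N : Subgroup G, N.Normal ∧ N ≠ ⊤ ∧ (A ≤ N ∨ B ≤ N)

omit [Finite G] in
theorem HasNormalOver.symm {A B : Subgroup G} (h : HasNormalOver A B) : HasNormalOver B A :=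
  h.imp fun _ ⟨h1, h2, h3⟩ => ⟨h1, h2, h3.symm⟩

omit [Finite G] in
theorem hasNormalOver_comap {G' : Type*} [Group G'] {A B : Subgroup G} (f : G →* G')
    (hf : Function.Surjective f) (h : HasNormalOver (A.map f) (B.map f)) : HasNormalOver A B := by
  obtain ⟨N, hn, htop, hle⟩ := h
  refine ⟨N.comap f, hn.comap f, fun e => htop ?_, hle.imp Subgroup.map_le_iff_le_comap.mp
    Subgroup.map_le_iff_le_comap.mp⟩
  rw [← Subgroup.map_comap_eq_self_of_surjective hf N, e, Subgroup.map_top_of_surjective f hf]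

theorem hasNormalOver_of_isNilpotent [Group.IsNilpotent G] {A : Subgroup G} (B : Subgroup G)
    (hA : A ≠ ⊤) : HasNormalOver A B := by
  obtain ⟨M, ⟨hMtop, hAM⟩, hmax⟩ := Set.Finite.exists_maximal
    (s := {M : Subgroup G | M ≠ ⊤ ∧ A ≤ M}) (Set.toFinite _) ⟨A, hA, le_rfl⟩
  exact ⟨M, Subgroup.NormalizerCondition.normal_of_coatom M
    Group.normalizerCondition_of_isNilpotent ⟨hMtop, fun X hX => by
      by_contra hne
      exact hX.not_ge (hmax ⟨hne, hAM.trans hX.le⟩ hX.le)⟩, hMtop, Or.inl hAM⟩

/-- The largest `r`-subgroup of a conjugate. -/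
theorem map_sylow_eq {A U : Subgroup G} {r : ℕ} [Fact r.Prime]
    (hU : Nat.card U = r ^ (Nat.card A).factorization r)
    (hmax : ∀ V ≤ A, IsPGroup r V → V ≤ U) (P : Sylow r A) :
    (P : Subgroup A).map A.subtype = U :=
  Subgroup.eq_of_le_of_card_ge (hmax _ (Subgroup.map_subtype_le _) (P.isPGroup'.map _))
    (by rw [hU, Subgroup.card_map_of_injective A.subtype_injective, P.card_eq_multiplicity])

/-- The Sylow subgroups of two nilpotent factors permute with all conjugates of each other. -/
theorem exists_sylow_perm {A B U V : Subgroup G} (hAB : Factors A B) {r : ℕ} [Fact r.Prime]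
    (hUA : U ≤ A) (hUn : (U.subgroupOf A).Normal)
    (hU : Nat.card U = r ^ (Nat.card A).factorization r)
    (hUmax : ∀ X ≤ A, IsPGroup r X → X ≤ U)
    (hV : Nat.card V = r ^ (Nat.card B).factorization r)
    (hVmax : ∀ X ≤ B, IsPGroup r X → X ≤ V) (hVB : V ≤ B) (hVn : (V.subgroupOf B).Normal) (g : G) :
    ∃ S : Subgroup G, IsPGroup r S ∧
      (S : Set G) = (U : Set G) * ((MulAut.conj g • V : Subgroup G) : Set G) := by
  obtain ⟨P, Q, R, hR⟩ := exists_sylow_product hAB r
  rw [map_sylow_eq hU hUmax P, map_sylow_eq hV hVmax Q] at hR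
  obtain ⟨a, ha, b, hb, rfl⟩ := hAB g
  refine ⟨MulAut.conj a • (R : Subgroup G),
    R.isPGroup'.of_equiv (Subgroup.equivSMul _ _), ?_⟩
  rw [Kegel.conj_coe_mul a hR, map_mul, mul_smul,
    Solvable.mem_normalizer_iff_conj_smul.mp
      ((Subgroup.normal_subgroupOf_iff_le_normalizer hVB).mp hVn hb),
    Solvable.mem_normalizer_iff_conj_smul.mp
      ((Subgroup.normal_subgroupOf_iff_le_normalizer hUA).mp hUn ha)]

/-- An element of `B` of `r`-power order lies in `A_r M` when `A M` is the whole group. -/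
theorem mem_sup_of_rElement {A U M : Subgroup G} [M.Normal] [Group.IsNilpotent A]
    (hAM : A ⊔ M = ⊤) {r : ℕ} [Fact r.Prime] (hUmax : ∀ X ≤ A, IsPGroup r X → X ≤ U)
    {x : G} {i : ℕ} (hx : orderOf x = r ^ i) : x ∈ U ⊔ M := by
  have hxtop : x ∈ ((A ⊔ M : Subgroup G) : Set G) := hAM ▸ Subgroup.mem_top x
  rw [Subgroup.mul_normal] at hxtop
  obtain ⟨a, ha, m, hm, rfl⟩ := hxtop
  obtain ⟨a₁, a₂, ha₁, ha₂, ⟨k, hk⟩, hcop, e⟩ := LocalStructure.exists_pPart_mul (p := r) a
  have hcomm : Commute a₁ a₂ := by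
    obtain ⟨i, hi⟩ := ha₁
    obtain ⟨j, hj⟩ := ha₂
    rw [← hi, ← hj]
    exact Commute.zpow_zpow_self _ i j
  have ha₁A : a₁ ∈ A := Subgroup.zpowers_le.mpr ha ha₁
  subst e
  have ha₁U : a₁ ∈ U := hUmax (Subgroup.zpowers a₁) (Subgroup.zpowers_le.mpr ha₁A)
    (IsPGroup.of_card (n := k) (by rw [Nat.card_zpowers, hk])) (Subgroup.mem_zpowers _)
  have ha₂M : a₂ ∈ M := by
    set f := QuotientGroup.mk' M
    have h1 : f a₂ = (f a₁)⁻¹ * f (a₁ * a₂ * m) := by
      have : f m = 1 := (QuotientGroup.eq_one_iff m).mpr hm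
      rw [map_mul, map_mul, this, mul_one, inv_mul_cancel_left]
    have hc : Commute (f a₁)⁻¹ (f (a₁ * a₂ * m)) := by
      have : f m = 1 := (QuotientGroup.eq_one_iff m).mpr hm
      rw [map_mul, this, mul_one]
      exact (((Commute.refl a₁).mul_right hcomm).map f).inv_left
    have h2 : orderOf (f a₂) ∣ r ^ (k + i) := by
      rw [h1]
      refine (hc.orderOf_mul_dvd_lcm).trans (Nat.lcm_dvd ?_ ?_)
      · rw [orderOf_inv]
        exact ((orderOf_map_dvd f a₁).trans (hk ▸ dvd_rfl)).trans (pow_dvd_pow r (k.le_add_right i))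
      · exact ((orderOf_map_dvd f _).trans (hx ▸ dvd_rfl)).trans (pow_dvd_pow r (i.le_add_left k))
    rw [← QuotientGroup.eq_one_iff, ← orderOf_eq_one_iff]
    exact Nat.eq_one_of_dvd_coprimes (hcop.pow_right _) (orderOf_map_dvd f a₂) h2
  exact mul_mem (mul_mem (Subgroup.mem_sup_left ha₁U) (Subgroup.mem_sup_right ha₂M))
    (Subgroup.mem_sup_right hm)

omit [Finite G] in
/-- The final reduction: no minimal normal subgroup `M` has `A M = G` and `A_r` inside a proper
normal subgroup of `A_r M`, unless `A` is inside a proper normal subgroup. -/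
theorem hasNormalOver_of_proper {A B U M : Subgroup G} [hMn : M.Normal]
    (hAM : A ⊔ M = ⊤) (hAtop : A ≠ ⊤)
    (hmin : ∀ N : Subgroup G, N.Normal → N ≤ M → N = ⊥ ∨ N = M)
    (hUA : U ≤ A) (hUn : (U.subgroupOf A).Normal) (hUne : U ≠ ⊥)
    (hstep : ∀ N : Subgroup G, N.Normal → N ≠ ⊥ → A ⊔ N ≠ ⊤ → HasNormalOver A B)
    {L : Subgroup ↥(U ⊔ M)} (hL : L.Normal) (hLtop : L ≠ ⊤)
    (hUL : U.subgroupOf (U ⊔ M) ≤ L) : HasNormalOver A B := by
  set R := Subgroup.normalClosure (U : Set G) with hRdef
  have hRL : R ≤ L.map (U ⊔ M).subtype := by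
    refine (Subgroup.closure_le _).mpr fun g hg => ?_
    obtain ⟨u, hu, hconj⟩ := Group.mem_conjugatesOfSet_iff.mp hg
    obtain ⟨c, rfl⟩ := isConj_iff.mp hconj
    have hc : c ∈ ((M ⊔ A : Subgroup G) : Set G) := by
      rw [sup_comm, hAM]; exact Subgroup.mem_top c
    rw [Subgroup.normal_mul] at hc
    obtain ⟨m, hm, a, ha, rfl⟩ := hc
    have hu' : a * u * a⁻¹ ∈ U := (Subgroup.mem_normalizer_iff.mp
      ((Subgroup.normal_subgroupOf_iff_le_normalizer hUA).mp hUn ha) u).mp hu
    refine ⟨⟨m, Subgroup.mem_sup_right hm⟩ * ⟨a * u * a⁻¹, Subgroup.mem_sup_left hu'⟩ *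
      ⟨m, Subgroup.mem_sup_right hm⟩⁻¹, hL.conj_mem _ (hUL hu') _, ?_⟩
    change m * (a * u * a⁻¹) * m⁻¹ = _
    group
  have hUR : U ≤ R := Subgroup.subset_normalClosure
  have hRn : R.Normal := Subgroup.normalClosure_normal
  rcases hmin (R ⊓ M) inferInstance inf_le_right with h | h
  · have hnorm : U.Normal := by
      rw [← Subgroup.normalizer_eq_top_iff, eq_top_iff, ← hAM]
      refine sup_le ((Subgroup.normal_subgroupOf_iff_le_normalizer hUA).mp hUn) fun m hm => ?_
      refine Subgroup.centralizer_le_normalizer _ fun u hu => ?_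
      exact (Subgroup.commute_of_normal_of_disjoint R M hRn hMn (disjoint_iff.mpr h) u m
        (hUR hu) hm).eq
    exact hstep U hnorm hUne (by rwa [sup_eq_left.mpr hUA])
  · exfalso
    refine hLtop (eq_top_iff.mpr fun x _ => ?_)
    have hx : (x : G) ∈ L.map (U ⊔ M).subtype :=
      (sup_le (hUR.trans hRL) (((h ▸ inf_le_left) : M ≤ R).trans hRL)) x.2
    obtain ⟨y, hy, e⟩ := hx
    rwa [← Subtype.ext e]

theorem hasNormalOver_aux : ∀ (n : ℕ) (G : Type u) [Group G] [Finite G] (A B : Subgroup G)
    [Group.IsNilpotent A] [Group.IsNilpotent B], Nat.card G ≤ n → Factors A B →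
    (A ≠ ⊤ ∨ B ≠ ⊤) → HasNormalOver A B := by
  intro n
  induction n with
  | zero =>
    intro G _ _ A B _ _ hn
    exact absurd hn (Nat.not_le.mpr Nat.card_pos)
  | succ n ih =>
    intro G _ _ A B _ _ hn hAB hproper
    by_cases hnilG : Group.IsNilpotent G
    · rcases hproper with hA | hB
      · exact hasNormalOver_of_isNilpotent B hA
      · exact (hasNormalOver_of_isNilpotent A hB).symm
    have hne : ∀ {A : Subgroup G} [Group.IsNilpotent A], A ≠ ⊤ := by
      intro A _ e
      subst e
      exact hnilG (Group.nilpotent_of_surjective (Subgroup.topEquiv (G := G)).toMonoidHom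
        (Subgroup.topEquiv (G := G)).surjective)
    have hstep : ∀ N : Subgroup G, N.Normal → N ≠ ⊥ → A ⊔ N ≠ ⊤ ∨ B ⊔ N ≠ ⊤ →
        HasNormalOver A B := by
      intro N hN hbot hor
      set f := QuotientGroup.mk' N
      have hf : Function.Surjective f := QuotientGroup.mk'_surjective N
      have := Group.nilpotent_of_surjective _ (f.subgroupMap_surjective A)
      have := Group.nilpotent_of_surjective _ (f.subgroupMap_surjective B)
      refine hasNormalOver_comap f hf (ih (G ⧸ N) _ _ ?_ (hAB.map f hf) ?_)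
      · have h2 := N.card_mul_index
        rw [Subgroup.index_eq_card] at h2
        have h3 : 2 ≤ Nat.card N := N.one_lt_card_iff_ne_bot.mpr hbot
        have h4 : 0 < Nat.card (G ⧸ N) := Nat.card_pos
        nlinarith
      · refine hor.imp (fun h e => h ?_) (fun h e => h ?_)
        all_goals
          rw [sup_comm, ← QuotientGroup.comap_map_mk', e, Subgroup.comap_top]
    have hnt : Nontrivial G := by
      by_contra h
      rw [not_nontrivial_iff_subsingleton] at h
      exact hne (A := A) (Subsingleton.elim _ _)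
    obtain ⟨M, hMn, hMne, hmin⟩ := Solvable.exists_minimal_normal (G := G)
    rcases eq_or_ne M ⊤ with rfl | hMtop
    · -- the simple case
      by_cases hcop : (Nat.card A).Coprime (Nat.card B)
      · have := isSolvable_of_coprime hAB hcop
        obtain ⟨p, hp, hGp⟩ := Solvable.exists_isPGroup_of_minimal_normal hMne hmin
        have := Fact.mk hp
        exact absurd (hGp.of_equiv Subgroup.topEquiv).isNilpotent hnilG
      obtain ⟨r, hr, hrA, hrB⟩ := Nat.Prime.not_coprime_iff_dvd.mp hcop
      have := Fact.mk hr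
      obtain ⟨U, hUA, hUp, hUc, hUn, hUmax⟩ := exists_pPart_subgroup A r
      obtain ⟨V, hVB, hVp, hVc, hVn, hVmax⟩ := exists_pPart_subgroup B r
      have hperm : Kegel.ProperPermutes U V := fun g => by
        obtain ⟨S, hSp, hS⟩ := exists_sylow_perm hAB hUA hUn hUc hUmax hVc hVmax hVB hVn g
        refine ⟨S, fun e => hnilG ?_, hS⟩
        exact ((e ▸ hSp : IsPGroup r (⊤ : Subgroup G)).of_equiv Subgroup.topEquiv).isNilpotent
      obtain ⟨N, hNn, hNtop, hN⟩ := Kegel.exists_normal_ne_top hperm
      obtain rfl := (hmin N hNn le_top).resolve_right hNtop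
      exfalso
      rcases hN with h | h
      · rw [le_bot_iff] at h
        rw [h, Subgroup.card_bot] at hUc
        exact hr.not_dvd_one
          (hUc ▸ dvd_pow_self r (hr.factorization_pos_of_dvd Nat.card_pos.ne' hrA).ne')
      · rw [le_bot_iff] at h
        rw [h, Subgroup.card_bot] at hVc
        exact hr.not_dvd_one
          (hVc ▸ dvd_pow_self r (hr.factorization_pos_of_dvd Nat.card_pos.ne' hrB).ne')
    by_cases hAM : A ⊔ M = ⊤
    swap
    · exact hstep M hMn hMne (Or.inl hAM)
    by_cases hBM : B ⊔ M = ⊤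
    swap
    · exact hstep M hMn hMne (Or.inr hBM)
    have hdvd : ∀ {C : Subgroup G}, C ⊔ M = ⊤ → M.index ∣ Nat.card C := fun {C} hC => by
      rw [Subgroup.index_eq_card, ← Subgroup.card_top (G := G ⧸ M),
        ← Subgroup.map_top_of_surjective _ (QuotientGroup.mk'_surjective M), ← hC,
        Subgroup.map_sup, QuotientGroup.map_mk'_self, sup_bot_eq]
      exact Subgroup.card_map_dvd _ _
    obtain ⟨r, hr, hrd⟩ := Nat.exists_prime_and_dvd (mt Subgroup.index_eq_one.mp hMtop)
    have := Fact.mk hr
    obtain ⟨U, hUA, hUp, hUc, hUn, hUmax⟩ := exists_pPart_subgroup A r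
    obtain ⟨V, hVB, hVp, hVc, hVn, hVmax⟩ := exists_pPart_subgroup B r
    have hUne : U ≠ ⊥ := by
      rintro rfl
      rw [Subgroup.card_bot] at hUc
      exact hr.not_dvd_one (hUc ▸ dvd_pow_self r
        (hr.factorization_pos_of_dvd Nat.card_pos.ne' (hrd.trans (hdvd hAM))).ne')
    have hVne : V ≠ ⊥ := by
      rintro rfl
      rw [Subgroup.card_bot] at hVc
      exact hr.not_dvd_one (hVc ▸ dvd_pow_self r
        (hr.factorization_pos_of_dvd Nat.card_pos.ne' (hrd.trans (hdvd hBM))).ne')
    have hUV : U ⊔ M = V ⊔ M := by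
      refine le_antisymm (sup_le (fun x hx => ?_) le_sup_right)
        (sup_le (fun x hx => ?_) le_sup_right)
      · obtain ⟨i, hi⟩ := IsPGroup.iff_orderOf.mp hUp ⟨x, hx⟩
        exact mem_sup_of_rElement hBM hVmax (by rwa [Subgroup.orderOf_mk] at hi)
      · obtain ⟨i, hi⟩ := IsPGroup.iff_orderOf.mp hVp ⟨x, hx⟩
        exact mem_sup_of_rElement hAM hUmax (by rwa [Subgroup.orderOf_mk] at hi)
    set K := U ⊔ M with hKdef
    have hKn : K.Normal := by
      rw [← Subgroup.normalizer_eq_top_iff, eq_top_iff, ← hAM]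
      refine sup_le (le_trans (le_inf ((Subgroup.normal_subgroupOf_iff_le_normalizer hUA).mp hUn)
        ?_) (Subgroup.normalizer_inf_normalizer_le_normalizer_sup U M)) ?_
      · rw [Subgroup.normalizer_eq_top_iff.mpr hMn]; exact le_top
      · exact le_sup_right.trans Subgroup.le_normalizer
    by_cases hKr : IsPGroup r K
    · have : Group.IsNilpotent K := hKr.isNilpotent
      have hMK : M ≤ K := le_sup_right
      have hMne' : M.subgroupOf K ≠ ⊥ := by
        rw [Ne, Subgroup.subgroupOf_eq_bot, disjoint_iff, inf_eq_left.mpr hMK]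
        exact hMne
      have hzne := Solvable.inf_center_ne_bot hMne'
      set Z := ((M.subgroupOf K) ⊓ Subgroup.center K).map K.subtype with hZdef
      have hZn : Z.Normal := by
        rw [hZdef, Subgroup.map_inf _ _ _ K.subtype_injective]
        have h1 : ((Subgroup.center K).map K.subtype).Normal :=
          ConjAct.normal_of_characteristic_of_normal
        rw [Subgroup.subgroupOf_map_subtype, inf_eq_left.mpr hMK]
        infer_instance
      have hZM : Z ≤ M := by
        rintro _ ⟨x, hx, rfl⟩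
        exact hx.1
      obtain hZ | hZ := hmin Z hZn hZM
      · rw [hZdef, Subgroup.map_eq_bot_iff_of_injective _ K.subtype_injective] at hZ
        exact absurd hZ hzne
      have hUnorm : U.Normal := by
        rw [← Subgroup.normalizer_eq_top_iff, eq_top_iff, ← hAM]
        refine sup_le ((Subgroup.normal_subgroupOf_iff_le_normalizer hUA).mp hUn) fun m hm => ?_
        refine Subgroup.centralizer_le_normalizer _ fun u hu => ?_
        rw [← hZ] at hm
        obtain ⟨x, hx, rfl⟩ := hm
        exact congrArg Subtype.val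
          (Subgroup.mem_center_iff.mp hx.2 (⟨u, Subgroup.mem_sup_left hu⟩ : K))
      exact hstep U hUnorm hUne (Or.inl (by rw [sup_eq_left.mpr hUA]; exact hne))
    have hperm : Kegel.ProperPermutes (U.subgroupOf K) (V.subgroupOf K) := by
      intro k
      obtain ⟨S, hSp, hS⟩ := exists_sylow_perm hAB hUA hUn hUc hUmax hVc hVmax hVB hVn (k : G)
      have hVK : V ≤ K := hUV ▸ le_sup_left
      have hSK : S ≤ K := by
        intro x hx
        rw [← SetLike.mem_coe, hS] at hx
        obtain ⟨u, hu, v, hv, rfl⟩ := hx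
        refine K.mul_mem (Subgroup.mem_sup_left hu) ?_
        have h1 := K.mul_mem (K.mul_mem k.2 (hVK (Solvable.mem_conj_smul.mp hv))) (K.inv_mem k.2)
        simpa [mul_assoc] using h1
      refine ⟨S.subgroupOf K, fun e => hKr ?_, ?_⟩
      · rw [Subgroup.subgroupOf_eq_top] at e
        exact hSp.to_le e
      · ext x
        constructor
        · intro hx
          have hx' : (x : G) ∈ (U : Set G) * ((MulAut.conj (k : G) • V : Subgroup G) : Set G) :=
            hS ▸ hx
          obtain ⟨u, hu, v, hv, e⟩ := hx'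
          have huK : u ∈ K := Subgroup.mem_sup_left hu
          have hvK : v ∈ K := by
            have := K.mul_mem (K.inv_mem huK) x.2
            rwa [← e, inv_mul_cancel_left] at this
          refine ⟨⟨u, huK⟩, hu, ⟨v, hvK⟩, ?_, Subtype.ext e⟩
          rw [SetLike.mem_coe, Solvable.mem_conj_smul, Subgroup.mem_subgroupOf]
          exact Solvable.mem_conj_smul.mp hv
        · rintro ⟨u, hu, v, hv, rfl⟩
          rw [SetLike.mem_coe, Solvable.mem_conj_smul, Subgroup.mem_subgroupOf] at hv
          refine Subgroup.mem_subgroupOf.mpr ?_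
          rw [← SetLike.mem_coe, hS]
          exact ⟨u, hu, v, Solvable.mem_conj_smul.mpr hv, rfl⟩
    obtain ⟨L, hLn, hLtop, hL⟩ := Kegel.exists_normal_ne_top hperm
    rcases hL with hL | hL
    · exact hasNormalOver_of_proper hAM hne hmin hUA hUn hUne
        (fun N h1 h2 h3 => hstep N h1 h2 (Or.inl h3)) hLn hLtop hL
    · revert L hperm
      rw [hUV]
      intro _ L hLn hLtop hL
      exact (hasNormalOver_of_proper hBM hne hmin hVB hVn hVne
        (fun N h1 h2 h3 => (hstep N h1 h2 (Or.inr h3)).symm) hLn hLtop hL).symm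

theorem hasNormalOver {G : Type u} [Group G] [Finite G] {A B : Subgroup G}
    [Group.IsNilpotent A] [Group.IsNilpotent B] (hAB : Factors A B) (h : A ≠ ⊤ ∨ B ≠ ⊤) :
    HasNormalOver A B :=
  hasNormalOver_aux _ G A B le_rfl hAB h

theorem isSolvable_of_nilpotent_aux : ∀ (n : ℕ) (G : Type u) [Group G] [Finite G]
    (A B : Subgroup G) [Group.IsNilpotent A] [Group.IsNilpotent B], Nat.card G ≤ n →
    Factors A B → Group.IsSolvable G := by
  intro n
  induction n with
  | zero =>
    intro G _ _ A B _ _ hn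
    exact absurd hn (Nat.not_le.mpr Nat.card_pos)
  | succ n ih =>
    intro G _ _ A B _ _ hn hAB
    by_cases htop : A = ⊤ ∧ B = ⊤
    · obtain ⟨rfl, -⟩ := htop
      have : Group.IsNilpotent G :=
        Group.nilpotent_of_surjective (Subgroup.topEquiv (G := G)).toMonoidHom
          (Subgroup.topEquiv (G := G)).surjective
      infer_instance
    have key : ∀ {A B : Subgroup G} [Group.IsNilpotent A] [Group.IsNilpotent B], Factors A B →
        ∀ N : Subgroup G, N.Normal → N ≠ ⊤ → A ≤ N → Group.IsSolvable G := by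
      intro A B _ _ hAB N hN hNtop hAN
      refine (Group.isSolvable_iff_subgroup_quotient N).mpr ⟨?_, ?_⟩
      · have := nilpotent_subgroupOf (A := A) N
        have := nilpotent_subgroupOf (A := B) N
        refine ih N (A.subgroupOf N) (B.subgroupOf N) ?_ (Factors.subgroupOf_iff.mpr fun k hk => ?_)
        · have h1 : Nat.card N < Nat.card G := lt_of_le_of_ne N.card_le_card_group
            fun e => hNtop (Subgroup.eq_top_of_card_eq N e)
          omega
        · obtain ⟨a, ha, b, hb, e⟩ := hAB k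
          have hbN : b ∈ N := by
            have := N.mul_mem (N.inv_mem (hAN ha)) hk
            rwa [e, inv_mul_cancel_left] at this
          exact ⟨a, ⟨ha, hAN ha⟩, b, ⟨hb, hbN⟩, e⟩
      · have hsurj : Function.Surjective ((QuotientGroup.mk' N).comp B.subtype) := by
          intro x
          obtain ⟨g, rfl⟩ := QuotientGroup.mk'_surjective N x
          obtain ⟨a, ha, b, hb, rfl⟩ := hAB g
          refine ⟨⟨b, hb⟩, ?_⟩
          change QuotientGroup.mk' N b = _
          rw [map_mul, (QuotientGroup.eq_one_iff a).mpr (hAN ha) |> fun h => (show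
            QuotientGroup.mk' N a = 1 from h), one_mul]
        exact Group.isSolvable_of_surjective hsurj
    obtain ⟨N, hN, hNtop, hle⟩ := hasNormalOver hAB (by tauto)
    rcases hle with h | h
    · exact key hAB N hN hNtop h
    · exact key hAB.symm N hN hNtop h

/-- **The Kegel–Wielandt theorem.** -/
theorem isSolvable_of_nilpotent {G : Type u} [Group G] [Finite G] {A B : Subgroup G}
    [Group.IsNilpotent A] [Group.IsNilpotent B] (hAB : Factors A B) : Group.IsSolvable G :=
  isSolvable_of_nilpotent_aux _ G A B le_rfl hAB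

end CfsgLib.Factorizations
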