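import Cfsg.Agent.Factorizations.KegelWielandt
import Cfsg.Agent.Factorizations.Abelian

/-!
The derived length of a product of an abelian subgroup and a subgroup of class at most two.
-/

set_option autoImplicit false

open Pointwise
open scoped commutatorElement

universe u

namespace CfsgLib.Factorizations

variable {G : Type*} [Group G]

theorem derivedSeries_add_le_map {W : Subgroup G} {m : ℕ} (h : derivedSeries G m ≤ W) (k : ℕ) :
    derivedSeries G (m + k) ≤ (derivedSeries W k).map W.subtype := by
  induction k with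
  | zero => rwa [derivedSeries_zero, ← MonoidHom.range_eq_map, W.range_subtype, Nat.add_zero]
  | succ k ih =>
    rw [Nat.add_succ, derivedSeries_succ, derivedSeries_succ, Subgroup.map_commutator]
    exact Subgroup.commutator_mono ih ih

/-- The conjugates of a central commutator subgroup of `B` by an abelian `A` never generate, with
`A`, a subgroup containing `B`, in a solvable group. -/
theorem commutator_eq_bot_of_le_sup [Group.IsSolvable G] {A B L : Subgroup G} [IsMulCommutative A]
    [hLn : L.Normal] (hdL : ⁅B, B⁆ ≤ L)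
    (hgen : L ≤ Subgroup.closure {g : G | ∃ a ∈ A, ∃ d ∈ ⁅B, B⁆, g = a * d * a⁻¹})
    (hcen : ∀ d ∈ ⁅B, B⁆, ∀ b ∈ B, Commute d b) (hB : B ≤ L ⊔ A) : ⁅B, B⁆ = ⊥ := by
  set f := QuotientGroup.mk' ⁅L, L⁆ with hf
  have hLL : ∀ x ∈ L, ∀ y ∈ L, Commute (f x) (f y) := fun x hx y hy => by
    rw [← commutatorElement_eq_one_iff_commute, ← map_commutatorElement]
    exact (QuotientGroup.eq_one_iff _).mpr (Subgroup.commutator_mem_commutator hx hy)
  have hAA : ∀ x ∈ A, ∀ y ∈ A, Commute (f x) (f y) := fun x hx y hy =>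
    (show Commute x y from congrArg Subtype.val (mul_comm' (⟨x, hx⟩ : A) ⟨y, hy⟩)).map f
  -- the `A`-parts of the elements of `B` centralise the section `L / L'`
  have key : ∀ b ∈ B, ∃ l ∈ L, ∃ a ∈ A, b = l * a ∧ ∀ x ∈ L, Commute (f a) (f x) := by
    intro b hb
    have hb' : b ∈ ((L ⊔ A : Subgroup G) : Set G) := hB hb
    rw [Subgroup.normal_mul] at hb'
    obtain ⟨l, hl, a, ha, rfl⟩ := hb'
    refine ⟨l, hl, a, ha, rfl, fun x hx => ?_⟩
    have hle : L ≤ (Subgroup.centralizer ({f a} : Set (G ⧸ ⁅L, L⁆))).comap f := by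
      refine hgen.trans ((Subgroup.closure_le _).mpr ?_)
      rintro _ ⟨c, hc, d, hd, rfl⟩
      rw [SetLike.mem_coe, Subgroup.mem_comap, Subgroup.mem_centralizer_singleton_iff]
      have h1 : Commute (f d) (f l * f a) := by
        rw [← map_mul]; exact (hcen d hd _ hb).map f
      have h2 : Commute (f d) (f a) := by
        have h3 := ((hLL d (hdL hd) l hl).inv_right).mul_right h1
        rwa [inv_mul_cancel_left] at h3
      rw [map_mul, map_mul, map_inv]
      exact (((hAA c hc a ha).mul_left h2).mul_left (hAA c hc a ha).inv_left).eq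
    exact (Subgroup.mem_centralizer_singleton_iff.mp (hle hx)).symm
  have hD : ⁅B, B⁆ ≤ ⁅L, L⁆ := by
    rw [Subgroup.commutator_le]
    intro b hb b' hb'
    obtain ⟨l, hl, a, ha, rfl, ha'⟩ := key b hb
    obtain ⟨l', hl', a', haA', rfl, ha''⟩ := key b' hb'
    rw [← QuotientGroup.eq_one_iff]
    change f ⁅l * a, l' * a'⁆ = 1
    rw [map_commutatorElement, commutatorElement_eq_one_iff_commute, map_mul, map_mul]
    exact ((hLL l hl l' hl').mul_right (ha'' l hl).symm).mul_left
      ((ha' l' hl').mul_right (hAA a ha a' haA'))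
  have hL : L ≤ ⁅L, L⁆ := by
    refine hgen.trans ((Subgroup.closure_le _).mpr ?_)
    rintro _ ⟨a, -, d, hd, rfl⟩
    exact (inferInstance : ⁅L, L⁆.Normal).conj_mem d (hD hd) a
  have hLe : L = ⊥ := by
    have hd : ∀ n, L ≤ derivedSeries G n := by
      intro n
      induction n with
      | zero => exact le_top
      | succ n ih => exact hL.trans (Subgroup.commutator_mono ih ih)
    obtain ⟨n, hn⟩ := (inferInstance : Group.IsSolvable G).solvable
    exact le_bot_iff.mp (hn ▸ hd n)
  exact le_bot_iff.mp (hLe ▸ hdL)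

theorem length_primeFactorsList_lt {m n : ℕ} (hn : n ≠ 0) (hd : m ∣ n) (hne : m ≠ n) :
    m.primeFactorsList.length < n.primeFactorsList.length := by
  obtain ⟨c, rfl⟩ := hd
  rw [(Nat.perm_primeFactorsList_mul (left_ne_zero_of_mul hn) (right_ne_zero_of_mul hn)).length_eq,
    List.length_append]
  have hc : c.primeFactorsList ≠ [] := by
    rw [Ne, Nat.primeFactorsList_eq_nil]
    rintro (rfl | rfl)
    · simp at hn
    · simp at hne
  exact Nat.lt_add_of_pos_right (List.length_pos_iff.mpr hc)

theorem isNilpotent_of_commutator_commute {B : Subgroup G}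
    (hcen : ∀ d ∈ ⁅B, B⁆, ∀ b ∈ B, Commute d b) : Group.IsNilpotent B := by
  refine Subgroup.isNilpotent_of_ker_le_center (Abelianization.of (G := B)) ?_
  rw [Abelianization.ker_of]
  intro x hx
  rw [Subgroup.mem_center_iff]
  intro y
  refine Subtype.ext (hcen x ?_ y y.2).symm
  rw [← Subgroup.map_subtype_commutator]
  exact Subgroup.mem_map_of_mem _ hx

theorem derivedSeries_eq_bot_of_class_two_aux : ∀ (n : ℕ) (G : Type u) [Group G] [Finite G]
    (A B : Subgroup G) [IsMulCommutative A], (∀ d ∈ ⁅B, B⁆, ∀ b ∈ B, Commute d b) →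
    Factors A B → (Nat.card ↥⁅B, B⁆).primeFactorsList.length ≤ n →
    derivedSeries G (2 * (1 + n)) = ⊥ := by
  intro n
  induction n using Nat.strong_induction_on with
  | _ n ih =>
    intro G _ _ A B _ hcen hAB hn
    by_cases hD : ⁅B, B⁆ = ⊥
    · have : IsMulCommutative B := ⟨⟨fun x y => Subtype.ext
        (commutatorElement_eq_one_iff_mul_comm.mp (Subgroup.mem_bot.mp
          (hD ▸ Subgroup.commutator_mem_commutator x.2 y.2)))⟩⟩
      exact le_bot_iff.mp ((derivedSeries_antitone G (by omega : 2 ≤ 2 * (1 + n))).trans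
        (derivedSeries_two_eq_bot hAB).le)
    have hnilA : Group.IsNilpotent A := by
      exact Subgroup.isNilpotent_of_ker_le_center (Abelianization.of (G := A)) fun x _ =>
        Subgroup.mem_center_iff.mpr fun y => mul_comm' y x
    have hnilB := isNilpotent_of_commutator_commute hcen
    have hsolv : Group.IsSolvable G := isSolvable_of_nilpotent hAB
    set L := Subgroup.normalClosure ((⁅B, B⁆ : Subgroup G) : Set G) with hLdef
    have hLn : L.Normal := Subgroup.normalClosure_normal
    have hgen : L ≤ Subgroup.closure {g : G | ∃ a ∈ A, ∃ d ∈ ⁅B, B⁆, g = a * d * a⁻¹} := by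
      refine Subgroup.closure_mono fun g hg => ?_
      obtain ⟨d, hd, hconj⟩ := Group.mem_conjugatesOfSet_iff.mp hg
      obtain ⟨c, rfl⟩ := isConj_iff.mp hconj
      obtain ⟨a, ha, b, hb, rfl⟩ := hAB c
      refine ⟨a, ha, d, hd, ?_⟩
      calc a * b * d * (a * b)⁻¹ = a * (b * d) * b⁻¹ * a⁻¹ := by group
        _ = a * (d * b) * b⁻¹ * a⁻¹ := by rw [(hcen d hd b hb).eq]
        _ = _ := by group
    set W := L ⊔ A with hWdef
    have hAW : A ≤ W := le_sup_right
    -- `G / L` is metabelian
    have h2 : derivedSeries G 2 ≤ W := by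
      refine le_trans ?_ (le_sup_left (b := A))
      have : IsMulCommutative (B.map (QuotientGroup.mk' L)) := ⟨⟨fun x y => Subtype.ext ?_⟩⟩
      swap
      · obtain ⟨b, hb, hx⟩ := x.2
        obtain ⟨b', hb', hy⟩ := y.2
        change (x : G ⧸ L) * y = y * x
        rw [← hx, ← hy, ← commutatorElement_eq_one_iff_mul_comm, ← map_commutatorElement]
        exact (QuotientGroup.eq_one_iff _).mpr
          (Subgroup.subset_normalClosure (Subgroup.commutator_mem_commutator hb hb'))
      have := Subgroup.map_isMulCommutative A (QuotientGroup.mk' L)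
      have h := derivedSeries_two_eq_bot (hAB.map _ (QuotientGroup.mk'_surjective L))
      rw [← map_derivedSeries_eq (QuotientGroup.mk'_surjective L), Subgroup.map_eq_bot_iff,
        QuotientGroup.ker_mk'] at h
      exact h
    have hWf : Factors (A.subgroupOf W) (B.subgroupOf W) := Factors.subgroupOf_iff.mpr fun w hw => by
      obtain ⟨a, ha, b, hb, e⟩ := hAB w
      have hbW : b ∈ W := by
        have := W.mul_mem (W.inv_mem (hAW ha)) hw
        rwa [e, inv_mul_cancel_left] at this
      exact ⟨a, ⟨ha, hAW ha⟩, b, ⟨hb, hbW⟩, e⟩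
    have hmap : (⁅B.subgroupOf W, B.subgroupOf W⁆).map W.subtype = ⁅B ⊓ W, B ⊓ W⁆ := by
      rw [Subgroup.map_commutator, Subgroup.subgroupOf_map_subtype]
    have hle : ⁅B ⊓ W, B ⊓ W⁆ ≤ ⁅B, B⁆ := Subgroup.commutator_mono inf_le_left inf_le_left
    have hne : ⁅B ⊓ W, B ⊓ W⁆ ≠ ⁅B, B⁆ := by
      intro e
      refine hD (e ▸ commutator_eq_bot_of_le_sup (A := A) (L := L)
        (e.le.trans Subgroup.subset_normalClosure) (by rw [e]; exact hgen) ?_ inf_le_right)
      exact fun d hd b hb => hcen d (hle hd) b hb.1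
    have hlt : (Nat.card ↥⁅B.subgroupOf W, B.subgroupOf W⁆).primeFactorsList.length < n := by
      rw [← Subgroup.card_map_of_injective W.subtype_injective, hmap]
      refine (length_primeFactorsList_lt Nat.card_pos.ne' (Subgroup.card_dvd_of_le hle)
        fun hc => hne (Subgroup.eq_of_le_of_card_ge hle hc.ge)).trans_le hn
    have hA' : IsMulCommutative (A.subgroupOf W) := inferInstance
    have hbot := ih _ hlt W (A.subgroupOf W) (B.subgroupOf W) (fun d hd b hb => by
      refine Subtype.ext ((hcen d ?_ b hb).eq)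
      have : (d : G) ∈ ⁅B ⊓ W, B ⊓ W⁆ := hmap ▸ Subgroup.mem_map_of_mem W.subtype hd
      exact hle this) hWf le_rfl
    refine le_bot_iff.mp (le_trans (derivedSeries_antitone G ?_)
      ((derivedSeries_add_le_map h2 _).trans (by rw [hbot, Subgroup.map_bot])))
    omega

end CfsgLib.Factorizations
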