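import Cfsg.Agent.Solvable.Basic
import Cfsg.Agent.Solvable.Factorization

/-!
Kegel's lemma on permutable proper products.
-/

open Pointwise

namespace CfsgLib.Kegel

variable {G : Type*} [Group G]

/-- The conjugate of a product set. -/
theorem conj_coe_mul {A B : Subgroup G} {S : Subgroup G} (g : G)
    (hS : (S : Set G) = (A : Set G) * (B : Set G)) :
    ((MulAut.conj g • S : Subgroup G) : Set G) =
      ((MulAut.conj g • A : Subgroup G) : Set G) * ((MulAut.conj g • B : Subgroup G) : Set G) := by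
  ext z
  constructor
  · intro hz
    have h1 : g⁻¹ * z * g ∈ (S : Set G) := Solvable.mem_conj_smul.mp hz
    rw [hS] at h1
    obtain ⟨p, hp, q, hq, e⟩ := h1
    refine ⟨g * p * g⁻¹, Solvable.conj_mem_conj_smul hp, g * q * g⁻¹,
      Solvable.conj_mem_conj_smul hq, ?_⟩
    change g * p * g⁻¹ * (g * q * g⁻¹) = z
    have e' : p * q = g⁻¹ * z * g := e
    calc g * p * g⁻¹ * (g * q * g⁻¹) = g * (p * q) * g⁻¹ := by group
      _ = z := by rw [e']; group
  · rintro ⟨u, hu, v, hv, rfl⟩
    change u * v ∈ MulAut.conj g • S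
    rw [Solvable.mem_conj_smul]
    have h1 := Solvable.mem_conj_smul.mp hu
    have h2 := Solvable.mem_conj_smul.mp hv
    rw [show g⁻¹ * (u * v) * g = (g⁻¹ * u * g) * (g⁻¹ * v * g) by group, ← SetLike.mem_coe, hS]
    exact Set.mul_mem_mul h1 h2

/-- If `A B` is a subgroup then `A` and `B` permute. -/
theorem permute_of_coe {A B S : Subgroup G} (hS : (S : Set G) = (A : Set G) * (B : Set G)) :
    (A : Set G) * (B : Set G) = (B : Set G) * (A : Set G) := by
  ext z
  constructor
  · intro hz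
    have h1 : z⁻¹ ∈ (S : Set G) := S.inv_mem (by rw [← SetLike.mem_coe, hS]; exact hz)
    rw [hS] at h1
    obtain ⟨a, ha, b, hb, e⟩ := h1
    refine ⟨b⁻¹, B.inv_mem hb, a⁻¹, A.inv_mem ha, ?_⟩
    change b⁻¹ * a⁻¹ = z
    have e' : a * b = z⁻¹ := e
    rw [← mul_inv_rev, e', inv_inv]
  · rintro ⟨b, hb, a, ha, rfl⟩
    change b * a ∈ (A : Set G) * (B : Set G)
    rw [← hS]
    refine S.mul_mem ?_ ?_
    · rw [← SetLike.mem_coe, hS]; exact ⟨1, A.one_mem, b, hb, one_mul b⟩
    · rw [← SetLike.mem_coe, hS]; exact ⟨a, ha, 1, B.one_mem, mul_one a⟩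

/-- `A` permutes properly with every conjugate of `B`. -/
def ProperPermutes (A B : Subgroup G) : Prop :=
  ∀ x : G, ∃ S : Subgroup G, S ≠ ⊤ ∧
    (S : Set G) = (A : Set G) * ((MulAut.conj x • B : Subgroup G) : Set G)

theorem ProperPermutes.le {A B : Subgroup G} (h : ProperPermutes A B) {x : G} {S : Subgroup G}
    (hS : (S : Set G) = (A : Set G) * ((MulAut.conj x • B : Subgroup G) : Set G)) :
    A ≤ S ∧ MulAut.conj x • B ≤ S := by
  have _ := h
  constructor
  · intro a ha
    rw [← SetLike.mem_coe, hS]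
    exact ⟨a, ha, 1, Subgroup.one_mem _, mul_one a⟩
  · intro b hb
    rw [← SetLike.mem_coe, hS]
    exact ⟨1, A.one_mem, b, hb, one_mul b⟩

/-- Adjoining a conjugate of `A` by an element of a conjugate of `B` keeps proper
permutability. -/
theorem ProperPermutes.extend {A B : Subgroup G} (h : ProperPermutes A B) {x y : G}
    (hy : y ∈ MulAut.conj x • B) : ProperPermutes (A ⊔ MulAut.conj y • A) B := by
  have hperm : ∀ z : G, (((A ⊔ MulAut.conj y • A : Subgroup G)) : Set G) *
      ((MulAut.conj z • B : Subgroup G) : Set G) =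
      ((MulAut.conj z • B : Subgroup G) : Set G) *
        ((A ⊔ MulAut.conj y • A : Subgroup G) : Set G) := by
    intro z
    -- `B^z` permutes with both generators
    have h1 : (A : Set G) * ((MulAut.conj z • B : Subgroup G) : Set G) =
        ((MulAut.conj z • B : Subgroup G) : Set G) * (A : Set G) := by
      obtain ⟨S, -, hS⟩ := h z
      exact permute_of_coe hS
    have h2 : ((MulAut.conj y • A : Subgroup G) : Set G) *
        ((MulAut.conj z • B : Subgroup G) : Set G) =
        ((MulAut.conj z • B : Subgroup G) : Set G) *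
          ((MulAut.conj y • A : Subgroup G) : Set G) := by
      obtain ⟨S, -, hS⟩ := h (y⁻¹ * z)
      have := conj_coe_mul y hS
      rw [← mul_smul, ← map_mul, mul_inv_cancel_left] at this
      exact permute_of_coe this
    have e := Subgroup.closure_union (A : Set G) ((MulAut.conj y • A : Subgroup G) : Set G)
    rw [Subgroup.closure_eq, Subgroup.closure_eq] at e
    -- permute with the join
    set C := (MulAut.conj z • B : Subgroup G)
    set D := A ⊔ MulAut.conj y • A
    obtain ⟨S, -, hS⟩ := h z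
    have hCD : ∀ d ∈ D, ∀ c ∈ C, ∃ c' ∈ C, ∃ d' ∈ D, d * c = c' * d' := by
      intro d hd
      rw [← e] at hd
      induction hd using Subgroup.closure_induction_left with
      | one => exact fun c hc => ⟨c, hc, 1, D.one_mem, by simp⟩
      | mul_left u hu w _ ih =>
        intro c hc
        obtain ⟨c', hc', d', hd', e'⟩ := ih c hc
        rcases hu with hu | hu
        · obtain ⟨c'', hc'', a', ha', e''⟩ : u * c' ∈ (C : Set G) * (A : Set G) := by
            rw [← h1]; exact Set.mul_mem_mul hu hc'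
          refine ⟨c'', hc'', a' * d', D.mul_mem (Subgroup.mem_sup_left ha') hd', ?_⟩
          have e3 : c'' * a' = u * c' := e''
          rw [mul_assoc, e', ← mul_assoc, ← e3, mul_assoc]
        · obtain ⟨c'', hc'', a', ha', e''⟩ : u * c' ∈ (C : Set G) *
              ((MulAut.conj y • A : Subgroup G) : Set G) := by
            rw [← h2]; exact Set.mul_mem_mul hu hc'
          refine ⟨c'', hc'', a' * d', D.mul_mem (Subgroup.mem_sup_right ha') hd', ?_⟩
          have e3 : c'' * a' = u * c' := e''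
          rw [mul_assoc, e', ← mul_assoc, ← e3, mul_assoc]
      | inv_mul_cancel u hu w _ ih =>
        intro c hc
        obtain ⟨c', hc', d', hd', e'⟩ := ih c hc
        rcases hu with hu | hu
        · obtain ⟨c'', hc'', a', ha', e''⟩ : u⁻¹ * c' ∈ (C : Set G) * (A : Set G) := by
            rw [← h1]; exact Set.mul_mem_mul (A.inv_mem hu) hc'
          refine ⟨c'', hc'', a' * d', D.mul_mem (Subgroup.mem_sup_left ha') hd', ?_⟩
          have e3 : c'' * a' = u⁻¹ * c' := e''
          rw [mul_assoc, e', ← mul_assoc, ← e3, mul_assoc]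
        · obtain ⟨c'', hc'', a', ha', e''⟩ : u⁻¹ * c' ∈ (C : Set G) *
              ((MulAut.conj y • A : Subgroup G) : Set G) := by
            rw [← h2]; exact Set.mul_mem_mul ((MulAut.conj y • A).inv_mem hu) hc'
          refine ⟨c'', hc'', a' * d', D.mul_mem (Subgroup.mem_sup_right ha') hd', ?_⟩
          have e3 : c'' * a' = u⁻¹ * c' := e''
          rw [mul_assoc, e', ← mul_assoc, ← e3, mul_assoc]
    apply Set.Subset.antisymm
    · rintro _ ⟨d, hd, c, hc, rfl⟩
      obtain ⟨c', hc', d', hd', e'⟩ := hCD d hd c hc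
      exact ⟨c', hc', d', hd', e'.symm⟩
    · rintro _ ⟨c, hc, d, hd, rfl⟩
      obtain ⟨c', hc', d', hd', e'⟩ := hCD d⁻¹ (D.inv_mem hd) c⁻¹ (C.inv_mem hc)
      refine ⟨d'⁻¹, D.inv_mem hd', c'⁻¹, C.inv_mem hc', ?_⟩
      change d'⁻¹ * c'⁻¹ = c * d
      rw [← mul_inv_rev, ← e', mul_inv_rev, inv_inv, inv_inv]
  intro z
  refine ⟨(A ⊔ MulAut.conj y • A) ⊔ MulAut.conj z • B, ?_, Solvable.coe_sup_of_permute (hperm z)⟩
  intro htop
  obtain ⟨S, hS', hS⟩ := h x
  obtain ⟨hAS, hBS⟩ := h.le hS
  have hDS : A ⊔ MulAut.conj y • A ≤ S := by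
    refine sup_le hAS ?_
    intro a ha
    rw [Solvable.mem_conj_smul] at ha
    have e : a = y * (y⁻¹ * a * y) * y⁻¹ := by group
    rw [e]
    exact S.mul_mem (S.mul_mem (hBS hy) (hAS ha)) (S.inv_mem (hBS hy))
  -- `B^x` is conjugate to `B^z` under `A ⊔ A^y`
  have hxz : x * z⁻¹ ∈ ((A ⊔ MulAut.conj y • A : Subgroup G) : Set G) *
      ((MulAut.conj z • B : Subgroup G) : Set G) := by
    rw [← Solvable.coe_sup_of_permute (hperm z), htop]; trivial
  obtain ⟨d, hd, c, hc, e⟩ := hxz
  have e' : MulAut.conj x • B = MulAut.conj d • (MulAut.conj z • B) := by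
    have e1 : d * c = x * z⁻¹ := e
    rw [show x = d * c * z by rw [e1]; group, map_mul, map_mul, mul_smul, mul_smul,
      Solvable.mem_normalizer_iff_conj_smul.mp
        (Subgroup.le_normalizer (H := MulAut.conj z • B) hc)]
  have hzS : MulAut.conj z • B ≤ S := by
    intro w hw
    have h1 : d * w * d⁻¹ ∈ S := hBS (e' ▸ Solvable.conj_mem_conj_smul hw)
    have h2 : w = d⁻¹ * (d * w * d⁻¹) * d := by group
    rw [h2]
    exact S.mul_mem (S.mul_mem (S.inv_mem (hDS hd)) h1) (hDS hd)
  exact hS' (top_le_iff.mp (htop.ge.trans (sup_le hDS hzS)))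

/-- **Kegel's lemma.** -/
theorem exists_normal_ne_top [Finite G] {A B : Subgroup G} (h : ProperPermutes A B) :
    ∃ N : Subgroup G, N.Normal ∧ N ≠ ⊤ ∧ (A ≤ N ∨ B ≤ N) := by
  obtain ⟨A', ⟨hAA', hA'⟩, hmax⟩ := Set.Finite.exists_maximal
    (s := {A' : Subgroup G | A ≤ A' ∧ ProperPermutes A' B}) (Set.toFinite _) ⟨A, le_rfl, h⟩
  have hnorm : ∀ x : G, MulAut.conj x • B ≤ Subgroup.normalizer (A' : Set G) := by
    intro x y hy
    have h1 := hA'.extend hy
    have h2 : A' ⊔ MulAut.conj y • A' ≤ A' := hmax ⟨hAA'.trans le_sup_left, h1⟩ le_sup_left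
    rw [Solvable.mem_normalizer_iff_conj_smul]
    exact Subgroup.eq_of_le_of_card_ge (le_sup_right.trans h2) (Solvable.card_conj_smul y A').ge
  by_cases hB : Subgroup.normalClosure (B : Set G) = ⊤
  · refine ⟨A', ?_, ?_, Or.inl hAA'⟩
    · rw [← Subgroup.normalizer_eq_top_iff, ← top_le_iff, ← hB]
      refine (Subgroup.closure_le _).mpr fun g hg => ?_
      obtain ⟨b, hb, hconj⟩ := Group.mem_conjugatesOfSet_iff.mp hg
      obtain ⟨c, hc⟩ := isConj_iff.mp hconj
      exact hnorm c (hc ▸ Solvable.conj_mem_conj_smul hb)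
    · rintro rfl
      obtain ⟨S, hS, hS'⟩ := hA' 1
      exact hS (top_le_iff.mp (hA'.le hS').1)
  · exact ⟨_, Subgroup.normalClosure_normal, hB, Or.inr (Subgroup.subset_normalClosure)⟩

end CfsgLib.Kegel
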