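import Cfsg.Agent.Factorizations.NilpotentSeed
import Cfsg.Agent.Factorizations.Kegel
import Cfsg.Agent.Characters.Burnside
import Cfsg.Agent.S0562

/-!
Wielandt's theorem: a product of two nilpotent subgroups of coprime orders is solvable.
-/

set_option autoImplicit false

open Pointwise

universe u

namespace CfsgLib.Factorizations

variable {G : Type*} [Group G] [Finite G] {A B : Subgroup G}

/-- A pair of nontrivial subgroups, normal in the factors, generating a proper subgroup. -/
def SeedPair (A B : Subgroup G) (P : Subgroup G × Subgroup G) : Prop :=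
  P.1 ≤ A ∧ (P.1.subgroupOf A).Normal ∧ P.1 ≠ ⊥ ∧ P.2 ≤ B ∧ (P.2.subgroupOf B).Normal ∧
    P.2 ≠ ⊥ ∧ P.1 ⊔ P.2 ≠ ⊤

omit [Finite G] in
theorem SeedPair.symm {X Y : Subgroup G} (h : SeedPair A B (X, Y)) : SeedPair B A (Y, X) :=
  ⟨h.2.2.2.1, h.2.2.2.2.1, h.2.2.2.2.2.1, h.1, h.2.1, h.2.2.1, by
    simpa [sup_comm] using h.2.2.2.2.2.2⟩

omit [Finite G] in
theorem normalClosure_le_of_factors (hAB : Factors A B) {Y J : Subgroup G} (hY : Y ≤ B)
    (hYn : (Y.subgroupOf B).Normal) (hA : A ≤ J) (hYJ : Y ≤ J) :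
    Subgroup.normalClosure (Y : Set G) ≤ J := by
  refine (Subgroup.closure_le _).mpr fun g hg => ?_
  obtain ⟨y, hy, hconj⟩ := Group.mem_conjugatesOfSet_iff.mp hg
  obtain ⟨c, rfl⟩ := isConj_iff.mp hconj
  obtain ⟨a, ha, b, hb, rfl⟩ := hAB c
  have h1 : b * y * b⁻¹ ∈ J := hYJ ((Subgroup.mem_normalizer_iff.mp
    ((Subgroup.normal_subgroupOf_iff_le_normalizer hY).mp hYn hb) y).mp hy)
  have h2 := J.mul_mem (J.mul_mem (hA ha) h1) (J.inv_mem (hA ha))
  simpa [mul_assoc] using h2

namespace Minimal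

/-- Without a seed pair there is no seed. -/
theorem exists_seedPair (h : Minimal A B) : ∃ P, SeedPair A B P := by
  by_contra hno
  refine h.not_noSeed fun a ha ha1 b hb hb1 K hK g haK hgK => hno ?_
  obtain ⟨α, hα, β, hβ, rfl⟩ := h.fac g
  have hb' : β * b * β⁻¹ = b := by rw [(hb.2 β hβ).symm.eq, mul_inv_cancel_right]
  refine ⟨(Subgroup.zpowers a, Subgroup.zpowers b), Subgroup.zpowers_le.mpr ha.1,
    ha.zpowers_normal, by simpa using ha1, Subgroup.zpowers_le.mpr hb.1, hb.zpowers_normal,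
    by simpa using hb1, fun e => ?_⟩
  refine conj_smul_ne_top hK α⁻¹ (top_le_iff.mp (e ▸ sup_le ?_ ?_))
  · rw [Subgroup.zpowers_le, Solvable.mem_conj_smul, inv_inv]
    rwa [show α * a * α⁻¹ = a by rw [(ha.2 α hα).symm.eq, mul_inv_cancel_right]]
  · rw [Subgroup.zpowers_le, Solvable.mem_conj_smul, inv_inv]
    rw [show α * β * b * (α * β)⁻¹ = α * (β * b * β⁻¹) * α⁻¹ by group, hb'] at hgK
    exact hgK

theorem normalizer_pair (h : Minimal A B) {X Y : Subgroup G} (hP : SeedPair A B (X, Y)) :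
    Subgroup.normalizer ((X ⊔ Y : Subgroup G) : Set G) ≠ ⊤ ∧
    Factors (A.subgroupOf (Subgroup.normalizer ((X ⊔ Y : Subgroup G) : Set G)))
      (B.subgroupOf (Subgroup.normalizer ((X ⊔ Y : Subgroup G) : Set G))) := by
  refine ⟨h.normalizer_ne_top (fun e => hP.2.2.1 (le_bot_iff.mp (e ▸ le_sup_left)))
    hP.2.2.2.2.2.2, Factors.subgroupOf_iff.mpr fun k hk => ?_⟩
  obtain ⟨a, ha, b, hb, e⟩ :=
    Cfsg.Agent.S0562.result A B X Y h.fac hP.1 hP.2.1 hP.2.2.2.1 hP.2.2.2.2.1 k hk
  exact ⟨a, ⟨ha.2, ha.1⟩, b, ⟨hb.2, hb.1⟩, e⟩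

/-- For a maximal pair, a prime in `O_p(N) ≠ 1` forces the rest of the factor into the pair. -/
theorem mem_of_pCore_ne_bot (h : Minimal A B) {X Y : Subgroup G}
    (hP : SeedPair A B (X, Y))
    (hmax : ∀ X', X ≤ X' → SeedPair A B (X', Y) → X' = X) {p : ℕ} [hp : Fact p.Prime]
    (hpA : p ∣ Nat.card A)
    (hcore : Cfsg.pCore p (Subgroup.normalizer ((X ⊔ Y : Subgroup G) : Set G)) ≠ ⊥)
    {a : G} (ha : a ∈ A) (hap : (orderOf a).Coprime p) : a ∈ X := by
  obtain ⟨hNtop, hNf⟩ := h.normalizer_pair hP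
  set N := Subgroup.normalizer ((X ⊔ Y : Subgroup G) : Set G) with hNdef
  have hn := Solvable.pCore_normal (G := N) p
  set U := (Cfsg.pCore p N).map N.subtype with hUdef
  have hUA : U ≤ A := by
    rintro _ ⟨u, hu, rfl⟩
    refine normal_pGroup_le_factor hNf ?_ (Solvable.isPGroup_pCore p) hu
    intro hd
    refine h.not_dvd_of_dvd hp.out hpA (hd.trans ?_)
    rw [← Subgroup.card_map_of_injective N.subtype_injective, Subgroup.subgroupOf_map_subtype]
    exact Subgroup.card_dvd_of_le inf_le_left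
  have hNU : N ≤ Subgroup.normalizer (U : Set G) := by
    intro n hn'
    have h1 := Subgroup.le_normalizer_map (H := Cfsg.pCore p N) N.subtype
    rw [Subgroup.normalizer_eq_top_iff.mpr hn] at h1
    exact h1 ⟨⟨n, hn'⟩, Subgroup.mem_top _, rfl⟩
  have hUne : U ≠ ⊥ := by
    rwa [hUdef, Ne, Subgroup.map_eq_bot_iff_of_injective _ N.subtype_injective]
  set S : Set G := {x | x ∈ A ∧ (orderOf x).Coprime p} with hSdef
  have hSA : Subgroup.closure S ≤ A := (Subgroup.closure_le _).mpr fun x hx => hx.1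
  have hSn : A ≤ Subgroup.normalizer ((Subgroup.closure S : Subgroup G) : Set G) := by
    intro g hg
    rw [Solvable.mem_normalizer_iff_conj_smul]
    refine Subgroup.eq_of_le_of_card_ge ?_ (Solvable.card_conj_smul g _).ge
    rw [Subgroup.smul_closure, Subgroup.closure_le]
    rintro _ ⟨x, hx, rfl⟩
    refine Subgroup.subset_closure ⟨?_, ?_⟩
    · exact A.mul_mem (A.mul_mem hg hx.1) (A.inv_mem hg)
    · change (orderOf (MulAut.conj g x)).Coprime p
      rw [MulEquiv.orderOf_eq]
      exact hx.2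
  have hnew : SeedPair A B (X ⊔ Subgroup.closure S, Y) := by
    refine ⟨sup_le hP.1 hSA, ?_, fun e => hP.2.2.1 (le_bot_iff.mp (e ▸ le_sup_left)), hP.2.2.2.1,
      hP.2.2.2.2.1, hP.2.2.2.2.2.1, fun e => ?_⟩
    · rw [Subgroup.normal_subgroupOf_iff_le_normalizer (sup_le hP.1 hSA)]
      exact (le_inf ((Subgroup.normal_subgroupOf_iff_le_normalizer hP.1).mp hP.2.1) hSn).trans
        (Subgroup.normalizer_inf_normalizer_le_normalizer_sup _ _)
    · refine h.normalizer_ne_top hUne (fun e' => h.ne_top (top_le_iff.mp (e' ▸ hUA))) ?_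
      refine top_le_iff.mp (e ▸ sup_le (sup_le ?_ ?_) ?_)
      · exact (le_sup_left.trans Subgroup.le_normalizer).trans hNU
      · refine (Subgroup.closure_le _).mpr fun x hx => Subgroup.centralizer_le_normalizer _ ?_
        intro u hu
        obtain ⟨i, hi⟩ := IsPGroup.iff_orderOf.mp ((Solvable.isPGroup_pCore (G := N) p).map
          N.subtype) ⟨u, hu⟩
        rw [Subgroup.orderOf_mk] at hi
        exact (NilpotentCover.commute_of_coprime_mem h.nilA (hUA hu) hx.1
          (hi ▸ (hx.2.symm.pow_left i))).eq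
      · exact (le_sup_right.trans Subgroup.le_normalizer).trans hNU
  rw [← hmax _ le_sup_left hnew]
  exact Subgroup.mem_sup_right (Subgroup.subset_closure ⟨ha, hap⟩)

/-- Some prime of each factor occurs in the Fitting subgroup of the normalizer of a maximal
pair, and it is the only one. -/
theorem exists_prime (h : Minimal A B) {X Y : Subgroup G} (hP : SeedPair A B (X, Y))
    (hmaxX : ∀ X', X ≤ X' → SeedPair A B (X', Y) → X' = X)
    (hmaxY : ∀ Y', Y ≤ Y' → SeedPair B A (Y', X) → Y' = Y) :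
    ∃ p, p.Prime ∧ ∀ a ∈ A, (orderOf a).Coprime p → a ∈ X := by
  obtain ⟨hNtop, hNf⟩ := h.normalizer_pair hP
  have hsolv := h.solvable _ hNtop hNf
  set N := Subgroup.normalizer ((X ⊔ Y : Subgroup G) : Set G) with hNdef
  have hN' : Subgroup.normalizer ((Y ⊔ X : Subgroup G) : Set G) = N := by rw [sup_comm, hNdef]
  by_contra hno
  push Not at hno
  have hA0 : ∀ p : Nat.Primes, (p : ℕ) ∣ Nat.card A → Cfsg.pCore (p : ℕ) N = ⊥ := by
    intro p hpA
    by_contra hne
    have := Fact.mk p.2
    obtain ⟨a, ha, hap, haX⟩ := hno p p.2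
    exact haX (h.mem_of_pCore_ne_bot hP hmaxX hpA hne ha hap)
  have hY : ∀ q : Nat.Primes, Cfsg.pCore (q : ℕ) N ≠ ⊥ →
      ∀ b ∈ B, (orderOf b).Coprime q → b ∈ Y := by
    intro q hne b hb hbq
    have := Fact.mk q.2
    have hqB : (q : ℕ) ∣ Nat.card B := by
      obtain ⟨i, hi⟩ := (Solvable.isPGroup_pCore (G := N) (q : ℕ)).exists_card_eq
      have hi0 : i ≠ 0 := by
        rintro rfl
        exact hne ((Subgroup.eq_bot_iff_card _).mpr (by rw [hi, pow_zero]))
      have h1 : (q : ℕ) ∣ Nat.card G := ((dvd_pow_self _ hi0).trans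
        (hi ▸ Subgroup.card_subgroup_dvd_card _)).trans (Subgroup.card_subgroup_dvd_card N)
      rw [h.fac.card_of_coprime h.cop] at h1
      exact (q.2.dvd_mul.mp h1).resolve_left fun hd => hne (hA0 q hd)
    exact h.symm.mem_of_pCore_ne_bot hP.symm hmaxY hqB (hN'.symm ▸ hne) hb hbq
  have : Nontrivial N := (Subgroup.nontrivial_iff_ne_bot N).mpr fun e =>
    hP.2.2.1 (le_bot_iff.mp (e ▸ le_sup_left.trans Subgroup.le_normalizer))
  have hF := Solvable.fittingSubgroup_ne_bot (G := N)
  obtain ⟨q, hq⟩ : ∃ q : Nat.Primes, Cfsg.pCore (q : ℕ) N ≠ ⊥ := by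
    by_contra hall
    push Not at hall
    apply hF
    rw [Solvable.fittingSubgroup_eq_iSup]
    simpa using hall
  have := Fact.mk q.2
  have honly : ∀ q' : Nat.Primes, q' ≠ q → Cfsg.pCore (q' : ℕ) N = ⊥ := by
    intro q' hne
    by_contra hc
    have := Fact.mk q'.2
    have hBY : B ≤ Y := fun b hb => mem_of_parts (q : ℕ)
      (fun v hv ⟨k, hk⟩ => hY q' hc v (Subgroup.zpowers_le.mpr hb hv) (hk ▸
        ((Nat.coprime_primes q.2 q'.2).mpr fun e => hne (Subtype.ext e.symm)).pow_left k))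
      (fun v hv hvq => hY q hq v (Subgroup.zpowers_le.mpr hb hv) hvq)
    have hle := normalClosure_le_of_factors h.fac.symm hP.1 hP.2.1
      (hBY.trans (le_sup_right (a := X))) le_sup_left
    rcases h.simple _ Subgroup.normalClosure_normal with h0 | h0
    · exact hP.2.2.1 (le_bot_iff.mp (h0 ▸ Subgroup.subset_normalClosure))
    · exact hP.2.2.2.2.2.2 (top_le_iff.mp (h0 ▸ hle))
  obtain ⟨r, hr, hrq, hrB⟩ := h.primesB q
  have := Fact.mk hr
  have := h.nilB
  obtain ⟨b, hb, hbr⟩ := exists_centralIn (A := B) hrB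
  have hbq : (orderOf b).Coprime q := hbr ▸ (Nat.coprime_primes hr q.2).mpr hrq
  have hbN : b ∈ N := (le_sup_right.trans Subgroup.le_normalizer) (hY q hq b hb.1 hbq)
  have hFq : Cfsg.fittingSubgroup N ≤ Cfsg.pCore (q : ℕ) N := by
    rw [Solvable.fittingSubgroup_eq_iSup]
    refine iSup_le fun q' => ?_
    rcases eq_or_ne q' q with rfl | hne
    · exact le_rfl
    · rw [honly q' hne]; exact bot_le
  have hqA : ¬ (q : ℕ) ∣ Nat.card A := fun hd => hq (hA0 q hd)
  have hbF : (⟨b, hbN⟩ : N) ∈ Cfsg.pCore (q : ℕ) N := by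
    refine hFq (Solvable.centralizer_fittingSubgroup_le fun f hf => ?_)
    have hn := Solvable.pCore_normal (G := N) (q : ℕ)
    have hfB : (f : G) ∈ B := normal_pGroup_le_factor hNf.symm (fun hd => hqA (hd.trans (by
      rw [← Subgroup.card_map_of_injective N.subtype_injective, Subgroup.subgroupOf_map_subtype]
      exact Subgroup.card_dvd_of_le inf_le_left))) (Solvable.isPGroup_pCore _) (hFq hf)
    exact Subtype.ext (hb.2 _ hfB).symm.eq
  obtain ⟨i, hi⟩ := IsPGroup.iff_orderOf.mp (Solvable.isPGroup_pCore (G := N) (q : ℕ)) ⟨_, hbF⟩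
  rw [Subgroup.orderOf_mk, Subgroup.orderOf_mk, hbr] at hi
  exact hrq ((Nat.prime_dvd_prime_iff_eq hr q.2).mp (hr.dvd_of_dvd_pow (dvd_of_eq hi)))

/-- There is no minimal counterexample. -/
theorem false (h : Minimal A B) : False := by
  obtain ⟨⟨X, Y⟩, hP, hmax⟩ := Set.Finite.exists_maximal
    (s := {P : Subgroup G × Subgroup G | SeedPair A B P}) (Set.toFinite _) h.exists_seedPair
  have hmaxX : ∀ X', X ≤ X' → SeedPair A B (X', Y) → X' = X := fun X' hle hP' =>
    le_antisymm (hmax (y := (X', Y)) hP' ⟨hle, le_rfl⟩).1 hle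
  have hmaxY : ∀ Y', Y ≤ Y' → SeedPair B A (Y', X) → Y' = Y := fun Y' hle hP' =>
    le_antisymm (hmax (y := (X, Y')) hP'.symm ⟨le_rfl, hle⟩).2 hle
  obtain ⟨p, hp, hpX⟩ := h.exists_prime hP hmaxX hmaxY
  obtain ⟨q, hq, hqY⟩ := h.symm.exists_prime hP.symm hmaxY hmaxX
  obtain ⟨s, hs, hsp, hsA⟩ := h.primesA p
  obtain ⟨r, hr, hrq, hrB⟩ := h.primesB q
  have := Fact.mk hs
  have := Fact.mk hr
  have := h.nilA
  have := h.nilB
  obtain ⟨hNtop, hNf⟩ := h.normalizer_pair hP
  have hsolv := h.solvable _ hNtop hNf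
  set N := Subgroup.normalizer ((X ⊔ Y : Subgroup G) : Set G) with hNdef
  obtain ⟨U, hUA, hUs, hUc, hUn, -⟩ := exists_pPart_subgroup A s
  obtain ⟨V, hVB, hVr, hVc, hVn, -⟩ := exists_pPart_subgroup B r
  have hUN : U ≤ N := fun u hu => by
    obtain ⟨i, hi⟩ := IsPGroup.iff_orderOf.mp hUs ⟨u, hu⟩
    rw [Subgroup.orderOf_mk] at hi
    exact (le_sup_left.trans Subgroup.le_normalizer)
      (hpX u (hUA hu) (hi ▸ ((Nat.coprime_primes hs hp).mpr hsp).pow_left i))
  have hVN : V ≤ N := fun u hu => by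
    obtain ⟨i, hi⟩ := IsPGroup.iff_orderOf.mp hVr ⟨u, hu⟩
    rw [Subgroup.orderOf_mk] at hi
    exact (le_sup_right.trans Subgroup.le_normalizer)
      (hqY u (hVB hu) (hi ▸ ((Nat.coprime_primes hr hq).mpr hrq).pow_left i))
  -- Hall subgroups of `N`
  have hall : ∀ {A B W : Subgroup G}, Minimal A B → ∀ t : ℕ, t.Prime → t ∣ Nat.card A →
      W ≤ A → (W.subgroupOf A).Normal → Nat.card W = t ^ (Nat.card A).factorization t → W ≤ N →
      ((W.subgroupOf N).subgroupOf (A.subgroupOf N)).Normal ∧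
        (Nat.card (W.subgroupOf N)).Coprime (W.subgroupOf N).index := by
    intro A B W hM t ht htA hWA hWn hWc hWN
    have := Fact.mk ht
    refine ⟨?_, ?_⟩
    · rw [Subgroup.normal_subgroupOf_iff_le_normalizer
        (show W.subgroupOf N ≤ A.subgroupOf N from fun x hx => hWA hx),
        ← Subgroup.subgroupOf_normalizer_eq hWN]
      exact fun x hx => (Subgroup.normal_subgroupOf_iff_le_normalizer hWA).mp hWn hx
    · rw [Nat.card_congr (Subgroup.subgroupOfEquivOfLe hWN).toEquiv, hWc]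
      refine ((Nat.Prime.coprime_iff_not_dvd ht).mpr fun hd => ?_).pow_left _
      have h1 : t ∣ W.index := hd.trans (Subgroup.relIndex_dvd_index_of_le hWN)
      rw [← Subgroup.relIndex_mul_index hWA, hM.index_eq] at h1
      refine (ht.dvd_mul.mp h1).elim (fun hd' => ?_) (hM.not_dvd_of_dvd ht htA)
      have h2 := (W.subgroupOf A).card_mul_index
      rw [Nat.card_congr (Subgroup.subgroupOfEquivOfLe hWA).toEquiv, hWc] at h2
      have h3 : t ^ ((Nat.card A).factorization t + 1) ∣ Nat.card A := by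
        rw [pow_succ]
        conv_rhs => rw [← h2]
        exact mul_dvd_mul_left _ hd'
      exact absurd ((ht.pow_dvd_iff_le_factorization Nat.card_pos.ne').mp h3) (by omega)
  obtain ⟨hUn', hUh⟩ := hall h s hs hsA hUA hUn hUc hUN
  obtain ⟨hVn', hVh⟩ := hall h.symm r hr hrB hVB hVn hVc hVN
  obtain ⟨T, hT⟩ := exists_eq_mul_of_hall hNf (A := U.subgroupOf N) (B := V.subgroupOf N)
    (fun x hx => hUA hx) hUn' (fun x hx => hVB hx) hVn' hUh hVh
  have hT' : ((T.map N.subtype : Subgroup G) : Set G) = (U : Set G) * (V : Set G) := by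
    ext g
    constructor
    · rintro ⟨t, ht, rfl⟩
      rw [hT] at ht
      obtain ⟨u, hu, v, hv, rfl⟩ := ht
      exact ⟨u, hu, v, hv, rfl⟩
    · rintro ⟨u, hu, v, hv, rfl⟩
      exact ⟨⟨u, hUN hu⟩ * ⟨v, hVN hv⟩, by rw [hT]; exact Set.mul_mem_mul hu hv, rfl⟩
  have hperm : Kegel.ProperPermutes U V := by
    intro g
    obtain ⟨a, ha, b, hb, rfl⟩ := h.fac g
    have e2 : MulAut.conj (a * b) • V = MulAut.conj a • V := by
      rw [map_mul, mul_smul, Solvable.mem_normalizer_iff_conj_smul.mp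
        ((Subgroup.normal_subgroupOf_iff_le_normalizer hVB).mp hVn hb)]
    refine ⟨MulAut.conj a • T.map N.subtype, conj_smul_ne_top ?_ a, ?_⟩
    · exact fun e => hNtop (top_le_iff.mp (e ▸ Subgroup.map_subtype_le T))
    · rw [Kegel.conj_coe_mul a hT', e2, Solvable.mem_normalizer_iff_conj_smul.mp
        ((Subgroup.normal_subgroupOf_iff_le_normalizer hUA).mp hUn ha)]
  obtain ⟨M, hMn, hMtop, hM⟩ := Kegel.exists_normal_ne_top hperm
  have hne : ∀ {W : Subgroup G} {t n : ℕ}, t.Prime → n ≠ 0 → Nat.card W = t ^ n → W ≠ ⊥ := by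
    rintro W t n ht hn hc rfl
    rw [Subgroup.card_bot] at hc
    exact ht.not_dvd_one (hc ▸ dvd_pow_self t hn)
  rcases h.simple M hMn with rfl | rfl
  · rcases hM with hM | hM
    · exact hne hs (hs.factorization_pos_of_dvd Nat.card_pos.ne' hsA).ne' hUc (le_bot_iff.mp hM)
    · exact hne hr (hr.factorization_pos_of_dvd Nat.card_pos.ne' hrB).ne' hVc (le_bot_iff.mp hM)
  · exact hMtop rfl

end Minimal

/-- A product of nilpotent subgroups in a simple group with trivial centre has no factor of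
prime power order. -/
theorem exists_prime_ne_of_simple {G : Type u} [Group G] [Finite G] [Nontrivial G]
    {A B : Subgroup G} [Group.IsNilpotent A] [Group.IsNilpotent B] (hAB : Factors A B)
    (hcop : (Nat.card A).Coprime (Nat.card B))
    (hsimple : ∀ N : Subgroup G, N.Normal → N = ⊥ ∨ N = ⊤) (hns : ¬ Group.IsSolvable G) (p : ℕ) :
    ∃ r, r.Prime ∧ r ≠ p ∧ r ∣ Nat.card A := by
  by_contra hno
  push Not at hno
  have : IsSimpleGroup G := { eq_bot_or_eq_top_of_normal := hsimple }
  by_cases hB : B = ⊥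
  · subst hB
    have hA : A = ⊤ := top_le_iff.mp fun g _ => by
      obtain ⟨a, ha, b, hb, rfl⟩ := hAB g
      rw [Subgroup.mem_bot.mp hb, mul_one]
      exact ha
    subst hA
    have : Group.IsNilpotent G :=
      Group.nilpotent_of_surjective (Subgroup.topEquiv (G := G)).toMonoidHom
        (Subgroup.topEquiv (G := G)).surjective
    exact hns inferInstance
  obtain ⟨r, hr, hrd⟩ := Nat.exists_prime_and_dvd (B.one_lt_card_iff_ne_bot.mpr hB).ne'
  have := Fact.mk hr
  obtain ⟨w, hw, hwr⟩ := exists_centralIn (A := B) hrd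
  have hw1 : w ≠ 1 := fun e => hr.ne_one (by rw [← hwr, e, orderOf_one])
  have hle : B ≤ Subgroup.centralizer ({w} : Set G) := fun b hb =>
    Subgroup.mem_centralizer_singleton_iff.mpr (hw.2 b hb).symm.eq
  have hidx : (Subgroup.centralizer ({w} : Set G)).index ∣ Nat.card A := by
    rw [← hAB.symm.index_of_coprime hcop.symm]
    exact Subgroup.index_dvd_of_le hle
  obtain ⟨p', k, hp', hk⟩ : ∃ p' k, p'.Prime ∧ Nat.card A = p' ^ k := by
    rcases Classical.em (∃ r, r.Prime ∧ r ∣ Nat.card A) with ⟨r', hr', hr'd⟩ | hnone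
    · refine ⟨r', _, hr', Nat.eq_prime_pow_of_unique_prime_dvd Nat.card_pos.ne' fun {d} hd hdd => ?_⟩
      by_contra hne
      rcases eq_or_ne r' p with rfl | h1
      · exact hno d hd hne hdd
      · exact hno r' hr' h1 hr'd
    · refine ⟨2, 0, Nat.prime_two, ?_⟩
      rw [pow_zero]
      by_contra h1
      exact hnone (Nat.exists_prime_and_dvd h1)
  rw [hk] at hidx
  obtain ⟨j, -, hj⟩ := (Nat.dvd_prime_pow hp').mp hidx
  have hprime := Characters.prime_card_of_primePow_class p' j hp' w hw1 hj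
  have := Fact.mk hprime
  have := (IsPGroup.of_card (p := Nat.card G) (n := 1) (G := G) (pow_one _).symm).isNilpotent
  exact hns inferInstance

theorem isSolvable_of_coprime_aux : ∀ (n : ℕ) (G : Type u) [Group G] [Finite G] (A B : Subgroup G)
    [Group.IsNilpotent A] [Group.IsNilpotent B], Nat.card G ≤ n →
    (Nat.card A).Coprime (Nat.card B) → Factors A B → Group.IsSolvable G := by
  intro n
  induction n with
  | zero =>
    intro G _ _ A B _ _ hn
    exact absurd hn (Nat.not_le.mpr Nat.card_pos)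
  | succ n ih =>
    intro G _ _ A B _ _ hn hcop hAB
    by_contra hns
    have hnt : Nontrivial G := by
      by_contra h
      rw [not_nontrivial_iff_subsingleton] at h
      exact hns (Group.isSolvable_of_comm fun a b => Subsingleton.elim _ _)
    have hsub : ∀ K : Subgroup G, K ≠ ⊤ → Factors (A.subgroupOf K) (B.subgroupOf K) →
        Group.IsSolvable K := by
      intro K hK hf
      have := nilpotent_subgroupOf (A := A) K
      have := nilpotent_subgroupOf (A := B) K
      refine ih K _ _ ?_ ?_ hf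
      · have h1 : Nat.card K < Nat.card G := lt_of_le_of_ne K.card_le_card_group
          fun e => hK (Subgroup.eq_top_of_card_eq K e)
        omega
      · refine Nat.Coprime.coprime_dvd_left ?_ (Nat.Coprime.coprime_dvd_right ?_ hcop)
        all_goals
          rw [← Subgroup.card_map_of_injective K.subtype_injective, Subgroup.subgroupOf_map_subtype]
          exact Subgroup.card_dvd_of_le inf_le_left
    have hsimple : ∀ N : Subgroup G, N.Normal → N = ⊥ ∨ N = ⊤ := by
      intro N hN
      by_contra hne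
      push Not at hne
      obtain ⟨hbot, htop⟩ := hne
      refine hns ((Group.isSolvable_iff_subgroup_quotient N).mpr ⟨hsub N htop ?_, ?_⟩)
      · refine Factors.subgroupOf_iff.mpr fun k hk => ?_
        obtain ⟨a, ha, b, hb, e⟩ := hAB k
        have hN' : ∀ {g : G}, (orderOf (QuotientGroup.mk' N g)) ∣ Nat.card A →
            orderOf (QuotientGroup.mk' N g) ∣ Nat.card B → g ∈ N := fun h1 h2 => by
          rw [← QuotientGroup.eq_one_iff, ← orderOf_eq_one_iff]
          exact Nat.eq_one_of_dvd_coprimes hcop h1 h2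
        have h1 : QuotientGroup.mk' N a * QuotientGroup.mk' N b = 1 := by
          rw [← map_mul, ← e]; exact (QuotientGroup.eq_one_iff k).mpr hk
        have haN : a ∈ N := hN' ((orderOf_map_dvd _ a).trans (A.orderOf_dvd_natCard ha))
          (by rw [eq_inv_of_mul_eq_one_left h1, orderOf_inv]
              exact (orderOf_map_dvd _ b).trans (B.orderOf_dvd_natCard hb))
        have hbN : b ∈ N := by
          have := N.mul_mem (N.inv_mem haN) hk
          rwa [e, inv_mul_cancel_left] at this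
        exact ⟨a, ⟨ha, haN⟩, b, ⟨hb, hbN⟩, e⟩
      · have := Group.nilpotent_of_surjective _ ((QuotientGroup.mk' N).subgroupMap_surjective A)
        have := Group.nilpotent_of_surjective _ ((QuotientGroup.mk' N).subgroupMap_surjective B)
        refine ih (G ⧸ N) (A.map (QuotientGroup.mk' N)) (B.map (QuotientGroup.mk' N)) ?_
          ((hcop.coprime_dvd_left (Subgroup.card_map_dvd _ _)).coprime_dvd_right
            (Subgroup.card_map_dvd _ _))
          (hAB.map _ (QuotientGroup.mk'_surjective N))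
        have h2 := N.card_mul_index
        rw [Subgroup.index_eq_card] at h2
        have h3 : 2 ≤ Nat.card N := N.one_lt_card_iff_ne_bot.mpr hbot
        have h4 : 0 < Nat.card (G ⧸ N) := Nat.card_pos
        nlinarith
    have hcenter : Subgroup.center G = ⊥ := (hsimple _ inferInstance).resolve_right fun e =>
      hns (Group.isSolvable_of_comm fun a b =>
        (Subgroup.mem_center_iff.mp (e ▸ Subgroup.mem_top a : a ∈ Subgroup.center G) b).symm)
    exact Minimal.false
      { nilA := ‹_›, nilB := ‹_›, cop := hcop, fac := hAB, simple := hsimple, center := hcenter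
        primesA := exists_prime_ne_of_simple hAB hcop hsimple hns
        primesB := exists_prime_ne_of_simple hAB.symm hcop.symm hsimple hns
        solvable := hsub }

/-- **Wielandt's theorem**: a product of nilpotent subgroups of coprime orders is solvable. -/
theorem isSolvable_of_coprime {G : Type u} [Group G] [Finite G] {A B : Subgroup G}
    [Group.IsNilpotent A] [Group.IsNilpotent B] (hAB : Factors A B)
    (hcop : (Nat.card A).Coprime (Nat.card B)) : Group.IsSolvable G :=
  isSolvable_of_coprime_aux _ G A B le_rfl hcop hAB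

end CfsgLib.Factorizations
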