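import Cfsg.Agent.Factorizations.NilpotentTools
import Cfsg.Agent.Transfer.HallComplement
import Cfsg.Agent.Coprime.Action

/-!
Wielandt's theorem on products of nilpotent subgroups of coprime orders, first half: in a
minimal counterexample some central elements of the two factors generate a proper subgroup.
-/

set_option autoImplicit false

open Pointwise

namespace CfsgLib.Factorizations

variable {G : Type*} [Group G] [Finite G]

/-- The state of a minimal counterexample to Wielandt's theorem. -/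
structure Minimal (A B : Subgroup G) : Prop where
  nilA : Group.IsNilpotent A
  nilB : Group.IsNilpotent B
  cop : (Nat.card A).Coprime (Nat.card B)
  fac : Factors A B
  simple : ∀ N : Subgroup G, N.Normal → N = ⊥ ∨ N = ⊤
  center : Subgroup.center G = ⊥
  primesA : ∀ p : ℕ, ∃ r, r.Prime ∧ r ≠ p ∧ r ∣ Nat.card A
  primesB : ∀ p : ℕ, ∃ r, r.Prime ∧ r ≠ p ∧ r ∣ Nat.card B
  solvable : ∀ K : Subgroup G, K ≠ ⊤ → Factors (A.subgroupOf K) (B.subgroupOf K) →
    Group.IsSolvable K

/-- No central elements of the two factors are contained in a proper subgroup. -/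
def NoSeed (A B : Subgroup G) : Prop :=
  ∀ a, CentralIn A a → a ≠ 1 → ∀ b, CentralIn B b → b ≠ 1 → ∀ K : Subgroup G, K ≠ ⊤ →
    ∀ g : G, a ∈ K → g * b * g⁻¹ ∉ K

omit [Finite G] in
theorem conj_smul_ne_top {K : Subgroup G} (hK : K ≠ ⊤) (g : G) : MulAut.conj g • K ≠ ⊤ := by
  intro h
  refine hK (eq_top_iff.mpr fun x _ => ?_)
  have : g * x * g⁻¹ ∈ MulAut.conj g • K := h ▸ Subgroup.mem_top _
  rw [Solvable.mem_conj_smul] at this
  simpa [mul_assoc] using this

variable {A B : Subgroup G}

omit [Finite G] in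
theorem Minimal.symm (h : Minimal A B) : Minimal B A where
  nilA := h.nilB
  nilB := h.nilA
  cop := h.cop.symm
  fac := h.fac.symm
  simple := h.simple
  center := h.center
  primesA := h.primesB
  primesB := h.primesA
  solvable := fun K hK hf => h.solvable K hK hf.symm

omit [Finite G] in
theorem NoSeed.symm (h : NoSeed A B) : NoSeed B A := by
  intro b hb hb1 a ha ha1 K hK g hbK hgK
  refine h a ha ha1 b hb hb1 (MulAut.conj g⁻¹ • K) (conj_smul_ne_top hK _) g⁻¹ ?_ ?_
  · rw [Solvable.mem_conj_smul]; simpa [mul_assoc] using hgK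
  · rw [Solvable.mem_conj_smul]; simpa [mul_assoc] using hbK

namespace Minimal

theorem exists_central_ne_one (h : Minimal A B) : ∃ z, CentralIn A z ∧ z ≠ 1 := by
  obtain ⟨r, hr, -, hd⟩ := h.primesA 0
  have := Fact.mk hr
  have := h.nilA
  obtain ⟨z, hz, ho⟩ := exists_centralIn (A := A) hd
  exact ⟨z, hz, fun e => hr.ne_one (by rw [← ho, e, orderOf_one])⟩

omit [Finite G] in
theorem not_dvd_of_dvd (h : Minimal A B) {p : ℕ} (hp : p.Prime) (hd : p ∣ Nat.card A) :
    ¬ p ∣ Nat.card B := fun hd' => hp.not_dvd_one (h.cop ▸ Nat.dvd_gcd hd hd')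

theorem index_eq (h : Minimal A B) : A.index = Nat.card B := h.fac.index_of_coprime h.cop

omit [Finite G] in
theorem ne_bot (h : Minimal A B) : A ≠ ⊥ := by
  obtain ⟨r, hr, -, hd⟩ := h.primesA 0
  rintro rfl
  rw [Subgroup.card_bot] at hd
  exact hr.not_dvd_one hd

theorem ne_top (h : Minimal A B) : A ≠ ⊤ := by
  obtain ⟨r, hr, -, hd⟩ := h.primesB 0
  rintro rfl
  rw [← h.index_eq, Subgroup.index_top] at hd
  exact hr.not_dvd_one hd

omit [Finite G] in
theorem centralizer_ne_top (h : Minimal A B) {x : G} (hx : x ≠ 1) :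
    Subgroup.centralizer ({x} : Set G) ≠ ⊤ := by
  intro e
  refine hx (Subgroup.mem_bot.mp (h.center ▸ Subgroup.mem_center_iff.mpr fun g => ?_))
  exact (Subgroup.mem_centralizer_singleton_iff.mp
    (e ▸ Subgroup.mem_top g : g ∈ Subgroup.centralizer ({x} : Set G)))

omit [Finite G] in
theorem normalizer_ne_top (h : Minimal A B) {U : Subgroup G} (hU : U ≠ ⊥) (hU' : U ≠ ⊤) :
    Subgroup.normalizer (U : Set G) ≠ ⊤ := fun e =>
  ((h.simple U (Subgroup.normalizer_eq_top_iff.mp e)).elim hU hU')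

/-- A central element of one factor normalises no nontrivial `q`-subgroup, `q` a prime not
dividing the order of that factor. -/
theorem eq_bot_of_mem_normalizer (h : Minimal A B) (hs : NoSeed A B) {z : G}
    (hz : CentralIn A z) (hz1 : z ≠ 1) {q : ℕ} [hq : Fact q.Prime] (hqA : ¬ q ∣ Nat.card A)
    {Q : Subgroup G} (hQ : IsPGroup q Q) (hzQ : z ∈ Subgroup.normalizer (Q : Set G)) : Q = ⊥ := by
  by_contra hne
  obtain ⟨g, hg⟩ := exists_le_conj_smul hQ (B := B) (by rwa [h.symm.index_eq])
  obtain ⟨w, hw, hw1⟩ := h.symm.exists_central_ne_one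
  have hQtop : Q ≠ ⊤ := fun e => conj_smul_ne_top h.symm.ne_top g (top_le_iff.mp (e ▸ hg))
  refine hs z hz hz1 w hw hw1 _ (h.normalizer_ne_top hne hQtop) g hzQ
    (Subgroup.centralizer_le_normalizer _ fun x hx => ?_)
  have h1 := Solvable.mem_conj_smul.mp (hg hx)
  calc x * (g * w * g⁻¹) = g * ((g⁻¹ * x * g) * w) * g⁻¹ := by group
    _ = g * (w * (g⁻¹ * x * g)) * g⁻¹ := by rw [(hw.2 _ h1).eq]
    _ = g * w * g⁻¹ * x := by group

/-- An element whose order is prime to that of `B` and which normalises `A` lies in `A`. -/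
theorem mem_of_coprime (h : Minimal A B) {u : G} (hu : u ∈ Subgroup.normalizer (A : Set G))
    (hc : (orderOf u).Coprime (Nat.card B)) : u ∈ A := by
  set N := Subgroup.normalizer (A : Set G)
  have hn : (A.subgroupOf N).Normal :=
    (Subgroup.normal_subgroupOf_iff_le_normalizer Subgroup.le_normalizer).mpr le_rfl
  have h1 : orderOf ((⟨u, hu⟩ : N) : N ⧸ A.subgroupOf N) ∣ orderOf u :=
    (orderOf_map_dvd (QuotientGroup.mk' (A.subgroupOf N)) _).trans (by rw [Subgroup.orderOf_mk])
  have h2 : orderOf ((⟨u, hu⟩ : N) : N ⧸ A.subgroupOf N) ∣ Nat.card B :=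
    (orderOf_dvd_natCard _).trans (by
      rw [← Subgroup.index_eq_card, ← h.index_eq]
      exact Subgroup.relIndex_dvd_index_of_le Subgroup.le_normalizer)
  have h3 := Nat.eq_one_of_dvd_coprimes hc h1 h2
  rw [orderOf_eq_one_iff, QuotientGroup.eq_one_iff] at h3
  exact h3

/-- The centralizer of a central element of `A` is `A`. -/
theorem mem_of_commute_central (h : Minimal A B) (hs : NoSeed A B) {z u : G}
    (hz : CentralIn A z) (hz1 : z ≠ 1) (hu : Commute u z) : u ∈ A := by
  set C := Subgroup.centralizer ({z} : Set G)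
  have hAC : A ≤ C := fun a ha => Subgroup.mem_centralizer_singleton_iff.mpr (hz.2 a ha).symm.eq
  have hcop : (Nat.card C).Coprime (Nat.card B) := by
    refine Nat.coprime_of_dvd fun q hq hqC hqB => ?_
    have := Fact.mk hq
    obtain ⟨y, hy⟩ := exists_prime_orderOf_dvd_card' q hqC
    have hne : Subgroup.zpowers (y : G) = ⊥ := by
      refine h.eq_bot_of_mem_normalizer hs hz hz1 (h.symm.not_dvd_of_dvd hq hqB)
        (IsPGroup.of_card (n := 1) (by rw [Nat.card_zpowers, Subgroup.orderOf_coe, hy, pow_one])) ?_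
      refine Subgroup.centralizer_le_normalizer _ ?_
      rintro _ ⟨i, rfl⟩
      exact ((show Commute (y : G) z from Subgroup.mem_centralizer_singleton_iff.mp y.2).zpow_left
        i).eq
    rw [Subgroup.zpowers_eq_bot, OneMemClass.coe_eq_one] at hne
    rw [hne, orderOf_one] at hy
    exact hq.ne_one hy.symm
  have hle : Nat.card C ≤ Nat.card A := by
    refine Nat.le_of_dvd Nat.card_pos (hcop.dvd_of_dvd_mul_right ?_)
    rw [← h.fac.card_of_coprime h.cop]
    exact Subgroup.card_subgroup_dvd_card C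
  have hu' : u ∈ C := Subgroup.mem_centralizer_singleton_iff.mpr hu.eq
  rwa [← Subgroup.eq_of_le_of_card_ge hAC hle] at hu'

omit [Finite G] in
theorem conj_mem_of_commute {g : G} {x y : G} (h : Commute x y) :
    Commute (g * x * g⁻¹) (g * y * g⁻¹) := by
  unfold Commute SemiconjBy
  calc g * x * g⁻¹ * (g * y * g⁻¹) = g * (x * y) * g⁻¹ := by group
    _ = g * (y * x) * g⁻¹ := by rw [h.eq]
    _ = _ := by group

/-- A prime order form of weak closure of the centre. -/
theorem mem_normalizer_of_conj_mem_prime (h : Minimal A B) (hs : NoSeed A B) {z g : G} {p : ℕ}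
    [hp : Fact p.Prime] (hz : CentralIn A z) (hzp : orderOf z = p) (hg : g * z * g⁻¹ ∈ A) :
    g ∈ Subgroup.normalizer (A : Set G) := by
  have hz1 : z ≠ 1 := fun e => hp.out.ne_one (by rw [← hzp, e, orderOf_one])
  obtain ⟨r, hr, hrp, hrd⟩ := h.primesA p
  have := Fact.mk hr
  have := h.nilA
  obtain ⟨z', hz', hzr⟩ := exists_centralIn (A := A) hrd
  have hz'1 : z' ≠ 1 := fun e => hr.ne_one (by rw [← hzr, e, orderOf_one])
  -- `z'` lies in the conjugate of `A`
  have hA' : g⁻¹ * z' * g ∈ A := h.mem_of_commute_central hs hz hz1 (by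
    have h1 := conj_mem_of_commute (g := g⁻¹) (hz'.2 _ hg)
    simpa [mul_assoc] using h1)
  have hcen : ∀ s, CentralIn A s → g * s * g⁻¹ ∈ A := fun s hs' => by
    refine h.mem_of_commute_central hs hz' hz'1 ?_
    have h1 := conj_mem_of_commute (g := g) (hs'.2 _ hA')
    simpa [mul_assoc] using h1
  have hB' : g⁻¹ * z * g ∈ A := by
    have h2 : Commute (g⁻¹ * z * g) z' := by
      have h1 := conj_mem_of_commute (g := g⁻¹) (hz.2 _ (hcen z' hz'))
      simpa [mul_assoc] using h1
    exact h.mem_of_commute_central hs hz' hz'1 h2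
  rw [Solvable.mem_normalizer_iff_conj_smul]
  refine Subgroup.eq_of_le_of_card_ge ?_ (Solvable.card_conj_smul g A).ge
  intro x hx
  rw [Solvable.mem_conj_smul] at hx
  have : g⁻¹ * x * g ∈ A.comap (MulAut.conj g).toMonoidHom := by
    refine mem_of_parts r (fun v hv hk => ?_) (fun v hv hvr => ?_)
    · obtain ⟨k, hk⟩ := hk
      have hvA : v ∈ A := (Subgroup.zpowers_le.mpr hx) hv
      refine h.mem_of_commute_central hs hz hz1 ?_
      have h1 : Commute v (g⁻¹ * z * g) := NilpotentCover.commute_of_coprime_mem h.nilA hvA hB' (by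
        rw [hk, show g⁻¹ * z * g = g⁻¹ * z * g⁻¹⁻¹ by group, ← MulAut.conj_apply,
          MulEquiv.orderOf_eq, hzp]
        exact ((Nat.coprime_primes hr hp.out).mpr hrp).pow_left k)
      have h2 := conj_mem_of_commute (g := g) h1
      simpa [mul_assoc] using h2
    · have hvA : v ∈ A := (Subgroup.zpowers_le.mpr hx) hv
      refine h.mem_of_commute_central hs hz' hz'1 ?_
      have h1 : Commute v (g⁻¹ * z' * g) := NilpotentCover.commute_of_coprime_mem h.nilA hvA hA' (by
        rw [show g⁻¹ * z' * g = g⁻¹ * z' * g⁻¹⁻¹ by group, ← MulAut.conj_apply,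
          MulEquiv.orderOf_eq, hzr]
        exact hvr)
      have h2 := conj_mem_of_commute (g := g) h1
      simpa [mul_assoc] using h2
  simpa [mul_assoc] using this

/-- Weak closure: a conjugate of a central element of `A` lies in `A` only by `N(A)`. -/
theorem mem_normalizer_of_conj_mem (h : Minimal A B) (hs : NoSeed A B) {z g : G}
    (hz : CentralIn A z) (hz1 : z ≠ 1) (hg : g * z * g⁻¹ ∈ A) :
    g ∈ Subgroup.normalizer (A : Set G) := by
  obtain ⟨p, hp, hpd⟩ := Nat.exists_prime_and_dvd (mt orderOf_eq_one_iff.mp hz1)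
  have := Fact.mk hp
  refine h.mem_normalizer_of_conj_mem_prime hs (z := z ^ (orderOf z / p)) (p := p)
    ⟨A.pow_mem hz.1 _, fun a ha => (hz.2 a ha).pow_left _⟩ (orderOf_pow_orderOf_div (orderOf_pos z).ne' hpd) ?_
  rw [← conj_pow]
  exact A.pow_mem hg _

/-- A `p`-subgroup containing a central element of `A` lies in `A`, for `p` dividing `|A|`. -/
theorem pGroup_le_of_central_mem (h : Minimal A B) (hs : NoSeed A B) {p : ℕ} [hp : Fact p.Prime]
    (hpA : p ∣ Nat.card A) {U : Subgroup G} (hU : IsPGroup p U) {z : G} (hz : CentralIn A z)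
    (hz1 : z ≠ 1) (hzU : z ∈ U) : U ≤ A := by
  obtain ⟨g, hg⟩ := exists_le_conj_smul hU (B := A)
    (h.index_eq ▸ h.not_dvd_of_dvd hp.out hpA)
  have h1 := Solvable.mem_conj_smul.mp (hg hzU)
  have h2 := h.mem_normalizer_of_conj_mem hs (g := g⁻¹) hz hz1 (by simpa using h1)
  rwa [Solvable.mem_normalizer_iff_conj_smul.mp (by simpa using inv_mem h2)] at hg

/-- For `y ∈ B ∩ N(A)` the centralizer of `y` normalises `B`. -/
theorem centralizer_le_normalizer_of_mem (h : Minimal A B) (hs : NoSeed A B) {y : G} (hy : y ∈ B)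
    (hyN : y ∈ Subgroup.normalizer (A : Set G)) (hy1 : y ≠ 1) :
    Subgroup.centralizer ({y} : Set G) ≤ Subgroup.normalizer (B : Set G) := by
  set K := Subgroup.centralizer ({y} : Set G) with hKdef
  have hKf : Factors (A.subgroupOf K) (B.subgroupOf K) := by
    refine Factors.symm (Factors.subgroupOf_iff.mpr fun k hk => ?_)
    obtain ⟨b, hb, a, ha, rfl⟩ := h.fac.symm k
    have e : b * a * y = y * (b * a) := Subgroup.mem_centralizer_singleton_iff.mp hk
    have h1 : a * y * a⁻¹ * y⁻¹ ∈ A := by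
      rw [mul_assoc, mul_assoc]
      refine A.mul_mem ha ?_
      rw [← mul_assoc]
      exact (Subgroup.mem_normalizer_iff.mp hyN _).mp (A.inv_mem ha)
    have h2 : a * y * a⁻¹ = b⁻¹ * y * b := by
      calc a * y * a⁻¹ = b⁻¹ * (b * a * y) * a⁻¹ := by group
        _ = b⁻¹ * (y * (b * a)) * a⁻¹ := by rw [e]
        _ = _ := by group
    have h3 : a * y * a⁻¹ * y⁻¹ ∈ A ⊓ B := ⟨h1, by
      rw [h2]; exact B.mul_mem (B.mul_mem (B.mul_mem (B.inv_mem hb) hy) hb) (B.inv_mem hy)⟩
    rw [Factors.inf_eq_bot h.cop, Subgroup.mem_bot, mul_inv_eq_one] at h3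
    have haK : a ∈ K := Subgroup.mem_centralizer_singleton_iff.mpr (mul_inv_eq_iff_eq_mul.mp h3)
    have hbK : b ∈ K := by
      have := K.mul_mem hk (K.inv_mem haK)
      rwa [mul_inv_cancel_right] at this
    exact ⟨b, ⟨hb, hbK⟩, a, ⟨ha, haK⟩, rfl⟩
  have := h.solvable K (h.centralizer_ne_top hy1) hKf
  obtain ⟨w, hw, hw1⟩ := h.symm.exists_central_ne_one
  have hwK : w ∈ K := Subgroup.mem_centralizer_singleton_iff.mpr (hw.2 y hy).eq
  -- the Fitting subgroup of the centralizer lies in `B`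
  have hF : Cfsg.fittingSubgroup K ≤ B.subgroupOf K := by
    rw [Solvable.fittingSubgroup_eq_iSup]
    refine iSup_le fun s => ?_
    have := Fact.mk s.2
    by_cases hsA : (s : ℕ) ∣ Nat.card A
    · have hbot := h.symm.eq_bot_of_mem_normalizer hs.symm hw hw1 (h.not_dvd_of_dvd s.2 hsA)
        ((Solvable.isPGroup_pCore (G := K) s).map K.subtype) (by
          have hn := Solvable.pCore_normal (G := K) (s : ℕ)
          have h1 := Subgroup.le_normalizer_map (H := Cfsg.pCore (s : ℕ) K) K.subtype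
          rw [Subgroup.normalizer_eq_top_iff.mpr hn] at h1
          exact h1 ⟨⟨w, hwK⟩, Subgroup.mem_top _, rfl⟩)
      rw [Subgroup.map_eq_bot_iff_of_injective _ K.subtype_injective] at hbot
      rw [hbot]; exact bot_le
    · have := Solvable.pCore_normal (G := K) (s : ℕ)
      refine normal_pGroup_le_factor hKf.symm (fun hd => hsA (hd.trans ?_))
        (Solvable.isPGroup_pCore _)
      rw [← Subgroup.card_map_of_injective K.subtype_injective, Subgroup.subgroupOf_map_subtype]
      exact Subgroup.card_dvd_of_le inf_le_left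
  have hwF : (⟨w, hwK⟩ : K) ∈ Cfsg.fittingSubgroup K := Solvable.centralizer_fittingSubgroup_le
    fun f hf => Subtype.ext (hw.2 _ (hF hf)).symm.eq
  intro k hk
  have := (Solvable.fittingSubgroup_normal (G := K)).conj_mem _ hwF ⟨k, hk⟩
  exact h.symm.mem_normalizer_of_conj_mem hs.symm hw hw1 (hF this)

/-- Centralizers of nontrivial elements of `A` normalise `A`. -/
theorem centralizer_le (h : Minimal A B) (hs : NoSeed A B) {x : G} (hx : x ∈ A) (hx1 : x ≠ 1) :
    Subgroup.centralizer ({x} : Set G) ≤ Subgroup.normalizer (A : Set G) := by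
  set N := Subgroup.normalizer (A : Set G) with hNdef
  set L := Subgroup.centralizer ({x} : Set G) with hLdef
  by_cases hLN : ∀ u ∈ L, u ∈ N → u ∈ A
  swap
  · push Not at hLN
    obtain ⟨u, huL, huN, huA⟩ := hLN
    obtain ⟨q, hq, hqu, hqB⟩ := Nat.Prime.not_coprime_iff_dvd.mp
      (fun hc => huA (h.mem_of_coprime huN hc))
    have := Fact.mk hq
    set y := u ^ (orderOf u / q) with hydef
    have hyq : orderOf y = q := orderOf_pow_orderOf_div (orderOf_pos u).ne' hqu
    obtain ⟨g, hg⟩ := exists_mem_conj_smul (B := B) (k := 1) (by rw [hyq, pow_one])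
      (h.symm.index_eq ▸ h.symm.not_dvd_of_dvd hq hqB)
    obtain ⟨a, ha, e⟩ := h.fac.exists_conj_smul g
    rw [e, Solvable.mem_conj_smul] at hg
    have haN : a ∈ N := Subgroup.le_normalizer ha
    have hy' : a⁻¹ * y * a ∈ N := N.mul_mem (N.mul_mem (N.inv_mem haN) (N.pow_mem huN _)) haN
    have hy1 : a⁻¹ * y * a ≠ 1 := by
      intro h1
      have : y = 1 := by
        calc y = a * (a⁻¹ * y * a) * a⁻¹ := by group
          _ = 1 := by rw [h1]; group
      rw [this, orderOf_one] at hyq
      exact hq.ne_one hyq.symm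
    have hcomm : Commute (a⁻¹ * x * a) (a⁻¹ * y * a) := by
      have h1 := conj_mem_of_commute (g := a⁻¹)
        ((show Commute x u from (Subgroup.mem_centralizer_singleton_iff.mp huL).symm).pow_right
          (orderOf u / q))
      simpa [hydef] using h1
    have hx' : a⁻¹ * x * a ∈ A := A.mul_mem (A.mul_mem (A.inv_mem ha) hx) ha
    have hxB : a⁻¹ * x * a ∈ Subgroup.normalizer (B : Set G) :=
      h.centralizer_le_normalizer_of_mem hs hg hy' hy1
        (Subgroup.mem_centralizer_singleton_iff.mpr hcomm.eq)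
    have hx'1 : a⁻¹ * x * a ≠ 1 := by
      intro h1
      exact hx1 (by calc x = a * (a⁻¹ * x * a) * a⁻¹ := by group
                      _ = 1 := by rw [h1]; group)
    have hle := h.symm.centralizer_le_normalizer_of_mem hs.symm hx' hxB hx'1
    intro l hl
    have hl' : a⁻¹ * l * a ∈ N := hle (Subgroup.mem_centralizer_singleton_iff.mpr (by
      have h1 := conj_mem_of_commute (g := a⁻¹)
        (show Commute l x from Subgroup.mem_centralizer_singleton_iff.mp hl)
      simpa using h1.eq))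
    have := N.mul_mem (N.mul_mem haN hl') (N.inv_mem haN)
    simpa [mul_assoc] using this
  have := h.nilA
  have hcL : ∀ s, CentralIn A s → s ∈ L := fun s hs' =>
    Subgroup.mem_centralizer_singleton_iff.mpr (hs'.2 x hx).eq
  obtain ⟨r, hr, -, hrA⟩ := h.primesA 0
  have := Fact.mk hr
  obtain ⟨p, hp, hpr, hpA⟩ := h.primesA r
  have := Fact.mk hp
  obtain ⟨z, hz, hzp⟩ := exists_centralIn (A := A) hpA
  obtain ⟨z', hz', hzr⟩ := exists_centralIn (A := A) hrA
  have hz1 : z ≠ 1 := fun e => hp.ne_one (by rw [← hzp, e, orderOf_one])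
  have hz'1 : z' ≠ 1 := fun e => hr.ne_one (by rw [← hzr, e, orderOf_one])
  have hzL : z ∈ L := hcL z hz
  have hz'L : z' ∈ L := hcL z' hz'
  -- a Sylow `r`-subgroup of `L` inside `A`
  obtain ⟨R, hR⟩ := (IsPGroup.of_card (p := r) (n := 1) (G := Subgroup.zpowers (⟨z', hz'L⟩ : L))
    (by rw [Nat.card_zpowers, Subgroup.orderOf_mk, hzr, pow_one])).exists_le_sylow
  have hRA : (R : Subgroup L).map L.subtype ≤ A :=
    h.pGroup_le_of_central_mem hs hrA (R.isPGroup'.map _) hz' hz'1
      ⟨_, hR (Subgroup.mem_zpowers _), rfl⟩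
  have hRc : (Nat.card (R : Subgroup L)).Coprime (R : Subgroup L).index := by
    rw [R.card_eq_multiplicity]
    exact ((Nat.Prime.coprime_iff_not_dvd hr).mpr R.not_dvd_index).pow_left _
  obtain ⟨K, hKn, hK⟩ := Transfer.exists_normal_complement_of_no_fusion (R : Subgroup L)
    R.isPGroup'.isNilpotent hRc (by
      rintro u hu v hv ⟨g, rfl⟩
      -- a Sylow `p`-subgroup of the centralizer of `v` containing `z`
      set v := g * u * g⁻¹ with hvdef
      set M := L ⊓ Subgroup.centralizer ({(v : G)} : Set G) with hMdef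
      have hzM : z ∈ M := ⟨hzL, Subgroup.mem_centralizer_singleton_iff.mpr
        (hz.2 _ (hRA ⟨v, hv, rfl⟩)).eq⟩
      have hz2M : (g : G) * z * (g : G)⁻¹ ∈ M := by
        refine ⟨L.mul_mem (L.mul_mem g.2 hzL) (L.inv_mem g.2),
          Subgroup.mem_centralizer_singleton_iff.mpr ?_⟩
        have h1 := conj_mem_of_commute (g := (g : G)) (hz.2 _ (hRA ⟨u, hu, rfl⟩))
        exact h1.eq
      obtain ⟨P, hP⟩ := (IsPGroup.of_card (p := p) (n := 1)
        (G := Subgroup.zpowers (⟨z, hzM⟩ : M))
        (by rw [Nat.card_zpowers, Subgroup.orderOf_mk, hzp, pow_one])).exists_le_sylow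
      have hPA : (P : Subgroup M).map M.subtype ≤ A :=
        h.pGroup_le_of_central_mem hs hpA (P.isPGroup'.map _) hz hz1
          ⟨_, hP (Subgroup.mem_zpowers _), rfl⟩
      obtain ⟨c, hc⟩ := exists_mem_conj_smul (p := p) (k := 1) (u := (⟨_, hz2M⟩ : M))
        (B := (P : Subgroup M))
        (by rw [Subgroup.orderOf_mk, ← MulAut.conj_apply, MulEquiv.orderOf_eq, hzp, pow_one])
        P.not_dvd_index
      rw [Solvable.mem_conj_smul] at hc
      have h1 : (c : G)⁻¹ * ((g : G) * z * (g : G)⁻¹) * (c : G) ∈ A := hPA ⟨_, hc, rfl⟩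
      have h2 := h.mem_normalizer_of_conj_mem hs (g := (c : G)⁻¹ * (g : G)) hz hz1
        (by simpa [mul_assoc] using h1)
      have hcL' : (c : G) ∈ L := c.2.1
      have haA : (c : G)⁻¹ * (g : G) ∈ A :=
        hLN _ (L.mul_mem (L.inv_mem hcL') g.2) h2
      -- replace that element by its `r`-part
      set a := (c⁻¹ : M).1 * (g : G) with hadef
      have hcv : Commute (c : G) (v : G) := Subgroup.mem_centralizer_singleton_iff.mp c.2.2
      have hav : (v : G) = a * (u : G) * a⁻¹ := by
        have h3 : (c : G)⁻¹ * (v : G) * (c : G) = (v : G) := by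
          rw [mul_assoc, ← hcv.eq, inv_mul_cancel_left]
        calc (v : G) = (c : G)⁻¹ * (v : G) * (c : G) := h3.symm
          _ = _ := by rw [hadef, InvMemClass.coe_inv, hvdef]; push_cast; group
      obtain ⟨a₁, a₂, ha₁, ha₂, ⟨k, hk⟩, hcop, hmul⟩ := LocalStructure.exists_pPart_mul (p := r) a
      have haA' : a ∈ A := by rw [hadef, InvMemClass.coe_inv]; exact haA
      have haL : a ∈ L := by
        rw [hadef, InvMemClass.coe_inv]; exact L.mul_mem (L.inv_mem hcL') g.2
      have ha₁A : a₁ ∈ A := Subgroup.zpowers_le.mpr haA' ha₁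
      have ha₁L : a₁ ∈ L := Subgroup.zpowers_le.mpr haL ha₁
      have ha₂A : a₂ ∈ A := Subgroup.zpowers_le.mpr haA' ha₂
      have hcomm : Commute a₂ (u : G) := by
        obtain ⟨i, hi⟩ := IsPGroup.iff_orderOf.mp R.isPGroup' ⟨u, hu⟩
        refine NilpotentCover.commute_of_coprime_mem h.nilA ha₂A (hRA ⟨u, hu, rfl⟩) ?_
        rw [Subgroup.orderOf_mk] at hi
        rw [Subgroup.orderOf_coe, hi]
        exact hcop.pow_right i
      refine ⟨⟨a₁, ha₁L⟩, ?_, Subtype.ext ?_⟩
      · -- the `r`-elements of `L ∩ A` lie in `R`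
        obtain ⟨U, hUA, hUp, -, -, hUmax⟩ := exists_pPart_subgroup A r
        have hle : (R : Subgroup L) ≤ U.subgroupOf L := fun w hw =>
          hUmax _ hRA (R.isPGroup'.map _) ⟨w, hw, rfl⟩
        have heq := R.is_maximal' (hUp.comap_of_injective L.subtype L.subtype_injective) hle
        rw [← heq]
        refine Subgroup.mem_subgroupOf.mpr (hUmax (Subgroup.zpowers a₁) ?_ ?_ (Subgroup.mem_zpowers _))
        · exact Subgroup.zpowers_le.mpr ha₁A
        · exact IsPGroup.of_card (n := k) (by rw [Nat.card_zpowers, hk])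
      · push_cast
        rw [hav, ← hmul]
        calc a₁ * (u : G) * a₁⁻¹ = a₁ * ((u : G) * a₂) * a₂⁻¹ * a₁⁻¹ := by group
          _ = a₁ * (a₂ * (u : G)) * a₂⁻¹ * a₁⁻¹ := by rw [hcomm.eq]
          _ = _ := by group)
  have hLA : ∀ s : ℕ, s.Prime → s ∣ Nat.card L → s ∣ Nat.card A := by
    intro s hs' hsL
    by_contra hsA
    have := Fact.mk hs'
    have hKr : ¬ r ∣ Nat.card K := by
      rw [← hK.index_eq_card]
      exact R.not_dvd_index
    have hKs : s ∣ Nat.card K := by
      rw [← hK.card_mul_card, R.card_eq_multiplicity] at hsL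
      refine (hs'.dvd_mul.mp hsL).resolve_right fun hd => hsA ?_
      rwa [(Nat.prime_dvd_prime_iff_eq hs' hr).mp (hs'.dvd_of_dvd_pow hd)]
    have hnorm : Subgroup.zpowers (⟨z', hz'L⟩ : L) ≤ Subgroup.normalizer (K : Set L) := by
      rw [Subgroup.normalizer_eq_top_iff.mpr hKn]; exact le_top
    obtain ⟨Q, hQ⟩ := Coprime.exists_invariant_sylow hnorm (by
      rw [Nat.card_zpowers, Subgroup.orderOf_mk, hzr]
      exact (Nat.Prime.coprime_iff_not_dvd hr).mpr hKr)
      (Or.inl (Group.isSolvable_of_comm fun a b => mul_comm' a b)) s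
    have hbot := h.eq_bot_of_mem_normalizer hs hz' hz'1 hsA
      (Q := (((Q : Subgroup K).map K.subtype).map L.subtype))
      ((Q.isPGroup'.map _).map _)
      (Subgroup.le_normalizer_map (H := (Q : Subgroup K).map K.subtype) L.subtype
        ⟨_, hQ (Subgroup.mem_zpowers _), rfl⟩)
    rw [Subgroup.map_eq_bot_iff_of_injective _ L.subtype_injective,
      Subgroup.map_eq_bot_iff_of_injective _ K.subtype_injective] at hbot
    exact Q.ne_bot_of_dvd_card hKs hbot
  have hall : L ≤ A := by
    rw [← inf_eq_left]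
    refine Subgroup.eq_of_le_of_card_ge inf_le_left (Nat.le_of_dvd Nat.card_pos ?_)
    rw [← Nat.factorization_prime_le_iff_dvd Nat.card_pos.ne' Nat.card_pos.ne']
    intro s hs'
    have := Fact.mk hs'
    by_cases hsL : s ∣ Nat.card L
    swap
    · rw [Nat.factorization_eq_zero_of_not_dvd hsL]; exact Nat.zero_le _
    obtain ⟨w, hw, hws⟩ := exists_centralIn (A := A) (hLA s hs' hsL)
    have hw1 : w ≠ 1 := fun e => hs'.ne_one (by rw [← hws, e, orderOf_one])
    obtain ⟨P, hP⟩ := (IsPGroup.of_card (p := s) (n := 1)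
      (G := Subgroup.zpowers (⟨w, hcL w hw⟩ : L))
      (by rw [Nat.card_zpowers, Subgroup.orderOf_mk, hws, pow_one])).exists_le_sylow
    have hPA : (P : Subgroup L).map L.subtype ≤ L ⊓ A := le_inf (Subgroup.map_subtype_le _)
      (h.pGroup_le_of_central_mem hs (hLA s hs' hsL) (P.isPGroup'.map _) hw hw1
        ⟨_, hP (Subgroup.mem_zpowers _), rfl⟩)
    refine (hs'.pow_dvd_iff_le_factorization Nat.card_pos.ne').mp ?_
    rw [← P.card_eq_multiplicity, ← Subgroup.card_map_of_injective L.subtype_injective]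
    exact Subgroup.card_dvd_of_le hPA
  exact hall.trans Subgroup.le_normalizer

/-- A minimal counterexample has a seed. -/
theorem not_noSeed_aux (h : Minimal A B) (hs : NoSeed A B) : Nat.card A < Nat.card B := by
  set N := Subgroup.normalizer (A : Set G) with hNdef
  obtain ⟨g, -, hg⟩ := SetLike.exists_of_lt
    (lt_top_iff_ne_top.mpr (h.normalizer_ne_top h.ne_bot h.ne_top) : N < ⊤)
  obtain ⟨z, hz, hz1⟩ := h.exists_central_ne_one
  have hgi : g⁻¹ ∉ N := fun hh => hg (by simpa using inv_mem hh)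
  have hTI : ∀ x ∈ A, g⁻¹ * x * g ∈ A → x = 1 := by
    intro x hx hx'
    by_contra hx1
    have h1 : g * z * g⁻¹ ∈ N := by
      refine h.centralizer_le hs hx hx1 (Subgroup.mem_centralizer_singleton_iff.mpr ?_)
      have h2 := conj_mem_of_commute (g := g) (hz.2 _ hx')
      simpa [mul_assoc] using h2.eq
    refine hg (h.mem_normalizer_of_conj_mem hs hz hz1 (h.mem_of_coprime h1 ?_))
    rw [← MulAut.conj_apply, MulEquiv.orderOf_eq]
    exact h.cop.coprime_dvd_left (A.orderOf_dvd_natCard hz.1)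
  let f : A → G ⧸ N := fun a => (((a : G) * g : G) : G ⧸ N)
  have hinj : Function.Injective f := by
    intro a b hab
    have h1 : g⁻¹ * ((a : G)⁻¹ * (b : G)) * g ∈ N := by
      have h3 := QuotientGroup.eq.mp hab
      simpa [mul_assoc] using h3
    have h2 : g⁻¹ * ((a : G)⁻¹ * (b : G)) * g ∈ A := by
      refine h.mem_of_coprime h1 ?_
      have : orderOf (g⁻¹ * ((a : G)⁻¹ * (b : G)) * g) = orderOf ((a : G)⁻¹ * (b : G)) := by
        rw [show g⁻¹ * ((a : G)⁻¹ * (b : G)) * g = g⁻¹ * ((a : G)⁻¹ * (b : G)) * g⁻¹⁻¹ by group,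
          ← MulAut.conj_apply, MulEquiv.orderOf_eq]
      rw [this]
      exact h.cop.coprime_dvd_left (A.orderOf_dvd_natCard (A.mul_mem (A.inv_mem a.2) b.2))
    exact Subtype.ext (inv_mul_eq_one.mp (hTI _ (A.mul_mem (A.inv_mem a.2) b.2) h2))
  have hmiss : ((1 : G) : G ⧸ N) ∉ Set.range f := by
    rintro ⟨a, ha⟩
    refine hg ?_
    have h1 := QuotientGroup.eq.mp ha
    have h2 : ((a : G) * g)⁻¹ ∈ N := by simpa using h1
    have h3 := N.mul_mem (N.inv_mem (Subgroup.le_normalizer a.2)) (N.inv_mem h2)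
    simpa [mul_assoc] using h3
  have hlt : Nat.card A < Nat.card (G ⧸ N) := by
    have := Fintype.ofFinite A
    have := Fintype.ofFinite (G ⧸ N)
    rw [Nat.card_eq_fintype_card, Nat.card_eq_fintype_card]
    exact Fintype.card_lt_of_injective_of_notMem f hinj hmiss
  rw [← Subgroup.index_eq_card] at hlt
  refine hlt.trans_le ?_
  rw [← h.index_eq]
  exact Nat.le_of_dvd (Nat.pos_of_ne_zero Subgroup.index_ne_zero_of_finite)
    (Subgroup.index_dvd_of_le Subgroup.le_normalizer)

/-- A minimal counterexample has a seed. -/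
theorem not_noSeed (h : Minimal A B) : ¬ NoSeed A B := fun hs =>
  lt_asymm (h.not_noSeed_aux hs) (h.symm.not_noSeed_aux hs.symm)

end Minimal

end CfsgLib.Factorizations
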