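import Cfsg.Agent.Factorizations.Basic
import Cfsg.Agent.Solvable.Fitting
import Cfsg.Agent.Solvable.Nilpotent
import Cfsg.Agent.NilpotentCover.Basic
import Cfsg.Agent.LocalStructure.Elements

/-!
Auxiliary facts for products of two nilpotent subgroups.
-/

set_option autoImplicit false

open Pointwise

namespace CfsgLib.Factorizations

variable {G : Type*} [Group G]

theorem Factors.subgroupOf_iff {A B K : Subgroup G} :
    Factors (A.subgroupOf K) (B.subgroupOf K) ↔
      ∀ k ∈ K, ∃ a ∈ A ⊓ K, ∃ b ∈ B ⊓ K, k = a * b := by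
  constructor
  · intro h k hk
    obtain ⟨a, ha, b, hb, e⟩ := h ⟨k, hk⟩
    exact ⟨a, ⟨ha, a.2⟩, b, ⟨hb, b.2⟩, congrArg Subtype.val e⟩
  · intro h k
    obtain ⟨a, ha, b, hb, e⟩ := h k k.2
    exact ⟨⟨a, ha.2⟩, ha.1, ⟨b, hb.2⟩, hb.1, Subtype.ext e⟩

theorem Factors.map {H : Type*} [Group H] {A B : Subgroup G} (h : Factors A B) (f : G →* H)
    (hf : Function.Surjective f) : Factors (A.map f) (B.map f) := fun x => by
  obtain ⟨g, rfl⟩ := hf x
  obtain ⟨a, ha, b, hb, rfl⟩ := h g
  exact ⟨f a, Subgroup.mem_map_of_mem f ha, f b, Subgroup.mem_map_of_mem f hb, map_mul f a b⟩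

/-- A conjugate of the second factor is a conjugate by an element of the first factor. -/
theorem Factors.exists_conj_smul {A B : Subgroup G} (h : Factors A B) (g : G) :
    ∃ a ∈ A, MulAut.conj g • B = MulAut.conj a • B := by
  obtain ⟨a, ha, b, hb, rfl⟩ := h g
  exact ⟨a, ha, by rw [map_mul, mul_smul, conj_smul_eq_of_mem hb]⟩

theorem nilpotent_of_le {A C : Subgroup G} (hC : C ≤ A) [Group.IsNilpotent A] :
    Group.IsNilpotent C :=
  Group.nilpotent_of_surjective (G := C.subgroupOf A)
    (Subgroup.subgroupOfEquivOfLe hC).toMonoidHom (Subgroup.subgroupOfEquivOfLe hC).surjective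

theorem nilpotent_subgroupOf {A : Subgroup G} (K : Subgroup G) [Group.IsNilpotent A] :
    Group.IsNilpotent (A.subgroupOf K) := by
  have := nilpotent_of_le (inf_le_left : A ⊓ K ≤ A)
  rw [← Subgroup.inf_subgroupOf_right]
  exact Group.nilpotent_of_surjective
    (Subgroup.subgroupOfEquivOfLe (inf_le_right : A ⊓ K ≤ K)).symm.toMonoidHom
    (Subgroup.subgroupOfEquivOfLe (inf_le_right : A ⊓ K ≤ K)).symm.surjective

variable [Finite G]

omit [Finite G] in
theorem Factors.inf_eq_bot {A B : Subgroup G} (hcop : (Nat.card A).Coprime (Nat.card B)) :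
    A ⊓ B = ⊥ :=
  (Subgroup.disjoint_of_coprime_natCard hcop).eq_bot

theorem Factors.card_of_coprime {A B : Subgroup G} (h : Factors A B)
    (hcop : (Nat.card A).Coprime (Nat.card B)) : Nat.card G = Nat.card A * Nat.card B := by
  have h1 := h.card_eq
  rwa [Factors.inf_eq_bot hcop, Subgroup.card_bot, mul_one] at h1

theorem Factors.index_of_coprime {A B : Subgroup G} (h : Factors A B)
    (hcop : (Nat.card A).Coprime (Nat.card B)) : A.index = Nat.card B :=
  Nat.eq_of_mul_eq_mul_left (Nat.card_pos (α := A))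
    (by rw [Subgroup.card_mul_index, h.card_of_coprime hcop])

/-- A `p`-subgroup is conjugate into a subgroup of index prime to `p`. -/
theorem exists_le_conj_smul {p : ℕ} [hp : Fact p.Prime] {U B : Subgroup G} (hU : IsPGroup p U)
    (hB : ¬ p ∣ B.index) : ∃ g : G, U ≤ MulAut.conj g • B := by
  obtain ⟨P⟩ : Nonempty (Sylow p B) := inferInstance
  have hc : Nat.card ((P : Subgroup B).map B.subtype) = p ^ (Nat.card G).factorization p := by
    rw [Subgroup.card_map_of_injective B.subtype_injective, P.card_eq_multiplicity,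
      ← B.card_mul_index, Nat.factorization_mul Nat.card_pos.ne'
        Subgroup.index_ne_zero_of_finite, Finsupp.add_apply,
      Nat.factorization_eq_zero_of_not_dvd hB, add_zero]
  obtain ⟨R, hR⟩ := hU.exists_le_sylow
  obtain ⟨g, hg⟩ := MulAction.exists_smul_eq G (Sylow.ofCard _ hc) R
  refine ⟨g, hR.trans ?_⟩
  rw [← hg, Sylow.coe_subgroup_smul, Sylow.coe_ofCard]
  exact Subgroup.pointwise_smul_le_pointwise_smul_iff.mpr (Subgroup.map_subtype_le _)

/-- An element of prime power order is conjugate into a subgroup of coprime index. -/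
theorem exists_mem_conj_smul {p : ℕ} [Fact p.Prime] {u : G} {B : Subgroup G} {k : ℕ}
    (hu : orderOf u = p ^ k) (hB : ¬ p ∣ B.index) : ∃ g : G, u ∈ MulAut.conj g • B := by
  obtain ⟨g, hg⟩ := exists_le_conj_smul (U := Subgroup.zpowers u)
    (IsPGroup.of_card (n := k) (by rw [Nat.card_zpowers, hu])) hB
  exact ⟨g, hg (Subgroup.mem_zpowers u)⟩

/-- The index of a factor in a factorized subgroup divides the order of the other factor. -/
theorem relIndex_dvd_card {A B K : Subgroup G} (hK : Factors (A.subgroupOf K) (B.subgroupOf K)) :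
    A.relIndex K ∣ Nat.card B := by
  have h1 := hK.card_eq
  rw [← (A.subgroupOf K).card_mul_index, mul_assoc] at h1
  have h2 : A.relIndex K ∣ Nat.card (B.subgroupOf K) :=
    ⟨_, (Nat.eq_of_mul_eq_mul_left Nat.card_pos h1).symm⟩
  refine h2.trans ?_
  rw [← Subgroup.card_map_of_injective K.subtype_injective, Subgroup.subgroupOf_map_subtype]
  exact Subgroup.card_dvd_of_le inf_le_left

/-- A normal `p`-subgroup of a factorized group lies in the factor of index prime to `p`. -/
theorem normal_pGroup_le_factor {p : ℕ} [hp : Fact p.Prime] {A B : Subgroup G}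
    (hAB : Factors A B) (hpB : ¬ p ∣ Nat.card B) {U : Subgroup G} [U.Normal] (hU : IsPGroup p U) :
    U ≤ A := by
  have h1 := hAB.card_eq
  rw [← A.card_mul_index, mul_assoc] at h1
  have h2 : A.index ∣ Nat.card B := ⟨_, (Nat.eq_of_mul_eq_mul_left Nat.card_pos h1).symm⟩
  obtain ⟨g, hg⟩ := exists_le_conj_smul hU (B := A) fun hd => hpB (hd.trans h2)
  intro u hu
  have h3 := hg ((inferInstance : U.Normal).conj_mem u hu g)
  rw [Solvable.mem_conj_smul] at h3
  simpa [mul_assoc] using h3

/-- `z` lies in `A` and centralises it. -/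
def CentralIn (A : Subgroup G) (z : G) : Prop := z ∈ A ∧ ∀ a ∈ A, Commute z a

omit [Finite G] in
theorem CentralIn.zpowers_normal {A : Subgroup G} {z : G} (hz : CentralIn A z) :
    ((Subgroup.zpowers z).subgroupOf A).Normal := by
  refine (Subgroup.normal_subgroupOf_iff_le_normalizer (Subgroup.zpowers_le.mpr hz.1)).mpr ?_
  intro a ha
  refine Subgroup.centralizer_le_normalizer _ ?_
  rintro _ ⟨i, rfl⟩
  exact ((hz.2 a ha).zpow_left i).eq

/-- A nilpotent subgroup has a central element of each prime order dividing its order. -/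
theorem exists_centralIn {A : Subgroup G} [Group.IsNilpotent A] {r : ℕ} [hr : Fact r.Prime]
    (h : r ∣ Nat.card A) : ∃ z, CentralIn A z ∧ orderOf z = r := by
  obtain ⟨P⟩ : Nonempty (Sylow r A) := inferInstance
  have hne := Solvable.inf_center_ne_bot (P.ne_bot_of_dvd_card h)
  have hp : IsPGroup r ((P : Subgroup A) ⊓ Subgroup.center A : Subgroup A) :=
    P.isPGroup'.to_le inf_le_left
  obtain ⟨n, hn⟩ := hp.exists_card_eq
  have hn0 : n ≠ 0 := by
    rintro rfl
    exact hne ((Subgroup.eq_bot_iff_card _).mpr (by rw [hn, pow_zero]))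
  obtain ⟨x, hx⟩ := exists_prime_orderOf_dvd_card'
    (G := ((P : Subgroup A) ⊓ Subgroup.center A : Subgroup A)) r (hn ▸ dvd_pow_self r hn0)
  refine ⟨((x : A) : G), ⟨(x : A).2, fun a ha => ?_⟩, by
    rw [Subgroup.orderOf_coe, Subgroup.orderOf_coe, hx]⟩
  exact (congrArg Subtype.val (Subgroup.mem_center_iff.mp x.2.2 ⟨a, ha⟩)).symm

/-- A nilpotent subgroup has a largest `p`-subgroup. -/
theorem exists_pPart_subgroup (A : Subgroup G) [Group.IsNilpotent A] (p : ℕ) [Fact p.Prime] :
    ∃ U ≤ A, IsPGroup p U ∧ Nat.card U = p ^ (Nat.card A).factorization p ∧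
      (U.subgroupOf A).Normal ∧ ∀ V ≤ A, IsPGroup p V → V ≤ U := by
  obtain ⟨P⟩ : Nonempty (Sylow p A) := inferInstance
  have hn : (P : Subgroup A).Normal := inferInstance
  refine ⟨(P : Subgroup A).map A.subtype, Subgroup.map_subtype_le _, P.isPGroup'.map _, ?_, ?_,
    fun V hV hVp => ?_⟩
  · rw [Subgroup.card_map_of_injective A.subtype_injective, P.card_eq_multiplicity]
  · rw [Subgroup.subgroupOf, Subgroup.comap_map_eq_self_of_injective A.subtype_injective]
    exact hn
  · intro v hv
    obtain ⟨Q, hQ⟩ := (hVp.of_equiv (Subgroup.subgroupOfEquivOfLe hV).symm).exists_le_sylow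
    have : Subsingleton (Sylow p A) := by
      have := Sylow.unique_of_normal P hn
      infer_instance
    exact ⟨⟨v, hV hv⟩, (Subsingleton.elim Q P) ▸ hQ hv, rfl⟩

/-- Membership can be tested on the `p`-part and the `p'`-part. -/
theorem mem_of_parts {H : Subgroup G} {u : G} (p : ℕ) [Fact p.Prime]
    (h1 : ∀ v ∈ Subgroup.zpowers u, (∃ k, orderOf v = p ^ k) → v ∈ H)
    (h2 : ∀ v ∈ Subgroup.zpowers u, (orderOf v).Coprime p → v ∈ H) : u ∈ H := by
  obtain ⟨a, b, ha, hb, hk, hcop, e⟩ := LocalStructure.exists_pPart_mul (p := p) u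
  exact e ▸ H.mul_mem (h1 a ha hk) (h2 b hb hcop)

end CfsgLib.Factorizations
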