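import Cfsg.Agent.Transfer.HallComplement
import Cfsg.Agent.Solvable.Basic
import Cfsg.Agent.Solvable.Hall

/-!
Normal complements of Hall subgroups from focal series, and from normalizers of Sylow subgroups.
-/

open Pointwise
open scoped commutatorElement

namespace CfsgLib.HallFocal

variable {G : Type*} [Group G] [Finite G]

theorem relIndex_dvd_index' (H N : Subgroup G) [N.Normal] : H.relIndex N ∣ H.index :=
  Transfer.relIndex_dvd_index_of_normal_right H N

/-- A focal step: from a normal supplement `N` of `H` to one meeting `H` in the focal subgroup of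
`N ⊓ H`. -/
theorem focal_step (H : Subgroup G) (hH : (Nat.card H).Coprime H.index) (N : Subgroup G)
    [N.Normal] (hNH : N ⊔ H = ⊤) :
    ∃ M : Subgroup G, M.Normal ∧ M ⊔ H = ⊤ ∧ M ⊓ H = (N ⊓ H).focalSubgroup := by
  set K := N ⊓ H with hK
  set F₀ := K.focalSubgroup with hF₀
  have hF₀K : F₀ ≤ K := Subgroup.focalSubgroup_le K
  have hr : (Nat.card K).Coprime (K.relIndex N) := by
    refine (hH.coprime_dvd_left (Subgroup.card_dvd_of_le inf_le_right)).coprime_dvd_right ?_
    rw [hK, Subgroup.inf_relIndex_left]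
    exact relIndex_dvd_index' H N
  set r := K.relIndex N with hrdef
  -- transfer into `K` modulo its focal subgroup
  have hder : ⁅N, N⁆ ⊓ K ≤ F₀ := by
    rintro x ⟨hxC, hxK⟩
    have hxN : x ∈ N := hxK.1
    have h1 : (⟨x, hxN⟩ : N) ∈ commutator N := by
      rw [← Subgroup.map_subtype_commutator] at hxC
      obtain ⟨y, hy, hyx⟩ := hxC
      rwa [← (Subtype.ext hyx : y = ⟨x, hxN⟩)]
    set K' := K.subgroupOf N
    have h2 : K'.transferFocal ⟨x, hxN⟩ = 1 :=
      (by open scoped IsMulCommutative in exact Abelianization.commutator_subset_ker K'.transferFocal h1)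
    rw [show (⟨x, hxN⟩ : N) = ((⟨⟨x, hxN⟩, hxK⟩ : K') : N) from rfl,
      Subgroup.transferFocal_eq_pow] at h2
    have h3 : (QuotientGroup.mk (⟨⟨x, hxN⟩, hxK⟩ : K') : K' ⧸ K'.focalSubgroupOf) ^
        Nat.card K' = 1 := by
      rw [← QuotientGroup.mk_pow, pow_card_eq_one', QuotientGroup.mk_one]
    have h4 := pow_gcd_eq_one.mpr ⟨h2, h3⟩
    have hc : Nat.gcd K'.index (Nat.card K') = 1 := by
      rw [Nat.card_congr (Subgroup.subgroupOfEquivOfLe (inf_le_left : K ≤ N)).toEquiv]
      exact hr.symm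
    rw [hc, pow_one, QuotientGroup.eq_one_iff] at h4
    have h5 : K'.focalSubgroup.map N.subtype ≤ F₀ := by
      rw [Subgroup.focalSubgroup_def, MonoidHom.map_closure, Subgroup.closure_le]
      rintro _ ⟨g, ⟨hg, a, ha, u, rfl⟩, rfl⟩
      exact Subgroup.subset_closure ⟨hg, (a : G), ha, (u : G), by simp [commutatorElement_def]⟩
    exact h5 ⟨_, h4, rfl⟩
  set F := F₀ ⊔ ⁅N, N⁆ with hF
  have hFN : F ≤ N := sup_le (hF₀K.trans inf_le_left) (Subgroup.commutator_le_self N)
  have hFK : F ⊓ K = F₀ := by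
    refine le_antisymm (fun x hx => ?_) (le_inf le_sup_left hF₀K)
    have hx' : x ∈ ((F₀ ⊔ ⁅N, N⁆ : Subgroup G) : Set G) := hx.1
    rw [Subgroup.mul_normal] at hx'
    obtain ⟨a, ha, b, hb, rfl⟩ := hx'
    refine mul_mem ha (hder ⟨hb, ?_⟩)
    simpa using mul_mem (inv_mem (hF₀K ha)) hx.2
  have hFn : F.Normal := by
    rw [← Subgroup.normalizer_eq_top_iff, ← top_le_iff, ← hNH]
    refine sup_le (fun n hn => ?_) (fun h hh => ?_)
    · rw [Solvable.mem_normalizer_iff_conj_smul]
      refine Subgroup.eq_of_le_of_card_ge (fun y hy => ?_) (Solvable.card_conj_smul n F).ge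
      rw [Solvable.mem_conj_smul] at hy
      have h1 : ⁅n, n⁻¹ * y * n⁆ ∈ F :=
        Subgroup.mem_sup_right (Subgroup.commutator_mem_commutator hn (hFN hy))
      have h2 : y = ⁅n, n⁻¹ * y * n⁆ * (n⁻¹ * y * n) := by
        simp [commutatorElement_def, mul_assoc]
      rw [h2]
      exact mul_mem h1 hy
    · have e1 : MulAut.conj h • F₀ ≤ F₀ := by
        change F₀.map (MulAut.conj h).toMonoidHom ≤ F₀
        rw [hF₀, Subgroup.focalSubgroup_def, MonoidHom.map_closure, Subgroup.closure_le]
        rintro _ ⟨g, ⟨hg, a, ha, u, rfl⟩, rfl⟩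
        have hconj : ∀ y ∈ K, h * y * h⁻¹ ∈ K := fun y hy =>
          ⟨Subgroup.Normal.conj_mem inferInstance y hy.1 h,
            H.mul_mem (H.mul_mem hh hy.2) (H.inv_mem hh)⟩
        refine Subgroup.subset_closure ⟨?_, h * a * h⁻¹, hconj a ha, h * u * h⁻¹, ?_⟩
        · exact hconj _ hg
        · simp [commutatorElement_def, mul_assoc]
      rw [Solvable.mem_normalizer_iff_conj_smul]
      refine Subgroup.eq_of_le_of_card_ge ?_ (Solvable.card_conj_smul h F).ge
      rw [hF, Subgroup.smul_sup]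
      exact sup_le (e1.trans le_sup_left)
        ((Subgroup.Normal.conj_smul_eq_self h ⁅N, N⁆).le.trans le_sup_right)
  set f := QuotientGroup.mk' F with hf
  have hcomm : ∀ x ∈ N, ∀ y ∈ N, Commute (f x) (f y) := fun x hx y hy => by
    have h1 : f ⁅x, y⁆ = 1 := (QuotientGroup.eq_one_iff _).mpr
      (Subgroup.mem_sup_right (Subgroup.commutator_mem_commutator hx hy))
    rw [map_commutatorElement, commutatorElement_eq_one_iff_commute] at h1
    exact h1
  let M : Subgroup G :=
    { carrier := {x | x ∈ N ∧ x ^ r ∈ F}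
      one_mem' := ⟨N.one_mem, by rw [one_pow]; exact F.one_mem⟩
      mul_mem' := fun {x y} hx hy => ⟨mul_mem hx.1 hy.1, by
        rw [← QuotientGroup.eq_one_iff]
        change f ((x * y) ^ r) = 1
        rw [map_pow, map_mul, (hcomm x hx.1 y hy.1).mul_pow, ← map_pow, ← map_pow]
        simp [hf, (QuotientGroup.eq_one_iff (N := F) (x ^ r)).mpr hx.2,
          (QuotientGroup.eq_one_iff (N := F) (y ^ r)).mpr hy.2]⟩
      inv_mem' := fun {x} hx => ⟨inv_mem hx.1, by rw [inv_pow]; exact inv_mem hx.2⟩ }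
  have hMn : M.Normal := ⟨fun x hx g => ⟨Subgroup.Normal.conj_mem inferInstance x hx.1 g, by
    rw [conj_pow]; exact hFn.conj_mem _ hx.2 g⟩⟩
  refine ⟨M, hMn, ?_, ?_⟩
  · rw [← top_le_iff, ← hNH]
    refine sup_le (fun x hx => ?_) le_sup_right
    -- both powers of `x` lie in `M ⊔ H`
    have hd : (Nat.card K).Coprime r := hr
    have h1 : x ^ r ∈ M ⊔ H := by
      have hn : ((F ⊔ K).subgroupOf N).Normal := by
        refine Subgroup.commutator_top_left_le_iff.mp ((Subgroup.commutator_mono le_top le_top).trans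
          (?_ : ⁅(⊤ : Subgroup N), (⊤ : Subgroup N)⁆ ≤ _))
        intro y hy
        refine Subgroup.mem_sup_left (Subgroup.mem_sup_right ?_)
        rw [← Subgroup.map_subtype_commutator, commutator_def]
        exact Subgroup.mem_map_of_mem _ hy
      have h2 := Subgroup.pow_index_mem ((F ⊔ K).subgroupOf N) (⟨x, hx⟩ : N)
      obtain ⟨c, hc⟩ : ((F ⊔ K).subgroupOf N).index ∣ r :=
        Subgroup.relIndex_dvd_of_le_left N le_sup_right
      have h3 : x ^ r ∈ F ⊔ K := by
        rw [hc, pow_mul]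
        exact pow_mem h2 c
      refine (sup_le ?_ ?_ : F ⊔ K ≤ M ⊔ H) h3
      · exact le_trans (fun y hy => ⟨hFN hy, pow_mem hy r⟩ : F ≤ M) le_sup_left
      · exact inf_le_right.trans le_sup_right
    have h2 : x ^ Nat.card K ∈ M ⊔ H := by
      refine Subgroup.mem_sup_left ⟨pow_mem hx _, ?_⟩
      have h3 : x ^ Nat.card N = 1 :=
        orderOf_dvd_iff_pow_eq_one.mp (N.orderOf_dvd_natCard hx)
      have h4 : Nat.card N = Nat.card K * r := by
        have h5 := (K.subgroupOf N).card_mul_index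
        rw [Nat.card_congr (Subgroup.subgroupOfEquivOfLe (inf_le_left : K ≤ N)).toEquiv] at h5
        exact h5.symm
      have h6 : (x ^ Nat.card K) ^ r = 1 := by
        rw [← pow_mul, ← h4]
        exact h3
      rw [h6]; exact F.one_mem
    have h3 : x ^ Nat.gcd (Nat.card K) r ∈ M ⊔ H := by
      have := Int.natCast_inj.mpr rfl |>.trans (Nat.gcd_eq_gcd_ab (Nat.card K) r)
      rw [← zpow_natCast, Nat.gcd_eq_gcd_ab, zpow_add, zpow_mul, zpow_mul, zpow_natCast,
        zpow_natCast]
      exact mul_mem (zpow_mem h2 _) (zpow_mem h1 _)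
    rwa [hd.gcd_eq_one, pow_one] at h3
  · refine le_antisymm (fun x hx => ?_) (fun x hx => ⟨⟨(hF₀K hx).1, ?_⟩, (hF₀K hx).2⟩)
    · have hxK : x ∈ K := ⟨hx.1.1, hx.2⟩
      have h1 : x ^ r ∈ F₀ := hFK ▸ ⟨hx.1.2, pow_mem hxK r⟩
      have h2 : x ^ Nat.card K = 1 :=
        orderOf_dvd_iff_pow_eq_one.mp (K.orderOf_dvd_natCard hxK)
      have h3 : x ^ Nat.gcd (Nat.card K) r ∈ F₀ := by
        rw [← zpow_natCast, Nat.gcd_eq_gcd_ab, zpow_add, zpow_mul, zpow_mul, zpow_natCast,
          zpow_natCast, h2, one_zpow, one_mul]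
        exact zpow_mem h1 _
      rwa [hr.gcd_eq_one, pow_one] at h3
    · exact pow_mem (Subgroup.mem_sup_left hx) r

theorem exists_complement_of_focal_series (H : Subgroup G) (hH : (Nat.card H).Coprime H.index)
    (n : ℕ) (hfoc : (fun K : Subgroup G => Subgroup.focalSubgroup K)^[n] H = ⊥) :
    ∃ N : Subgroup G, N.Normal ∧ Subgroup.IsComplement' N H := by
  have key : ∀ k : ℕ, ∃ N : Subgroup G, N.Normal ∧ N ⊔ H = ⊤ ∧
      N ⊓ H = (fun K : Subgroup G => Subgroup.focalSubgroup K)^[k] H := by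
    intro k
    induction k with
    | zero => exact ⟨⊤, inferInstance, top_sup_eq _, top_inf_eq _⟩
    | succ k ih =>
      obtain ⟨N, hN, hNH, hNK⟩ := ih
      obtain ⟨M, hM, hMH, hMK⟩ := focal_step H hH N hNH
      exact ⟨M, hM, hMH, by rw [hMK, hNK, Function.iterate_succ_apply']⟩
  obtain ⟨N, hN, hNH, hNK⟩ := key n
  refine ⟨N, hN, Subgroup.isComplement'_of_disjoint_and_mul_eq_univ
    (disjoint_iff.mpr (hNK.trans hfoc)) ?_⟩
  rw [← Subgroup.normal_mul, hNH, Subgroup.coe_top]

end CfsgLib.HallFocal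

namespace CfsgLib.Transfer

open Subgroup
open Cfsg (pResidual HasNormalPComplement)

variable {G : Type*} [Group G] [Finite G]

/-- A nilpotent Hall subgroup whose Sylow subgroups control their fusion has a normal
complement. -/
theorem exists_normal_complement_of_sylow_fusion (H : Subgroup G)
    (hn : Group.IsNilpotent H) (hH : Nat.Coprime (Nat.card H) H.index)
    (hf : ∀ q : ℕ, q.Prime → q ∣ Nat.card H → ∀ [Fact q.Prime] (P : Sylow q G),
      (P : Subgroup G) ≤ H → ControlsFusion (P : Subgroup G) (P : Subgroup G)) :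
    ∃ N : Subgroup G, N.Normal ∧ N.IsComplement' H := by
  classical
  have key : ∀ q : ℕ, q ∈ (Nat.card H).primeFactors → ∀ [Fact q.Prime],
      ¬ q ∣ Nat.card (pResidual q G) ∧
        (pResidual q G).index = q ^ (Nat.card H).factorization q := by
    intro q hq _
    obtain ⟨P, H₀, hPH, -, -, -, -⟩ := exists_nilpotent_hall_decomposition (p := q) H hn hH
      (Nat.dvd_of_mem_primeFactors hq)
    have hnpc := hasNormalPComplement_of_controlsFusion_self P
      (hf q (Nat.prime_of_mem_primeFactors hq) (Nat.dvd_of_mem_primeFactors hq) P hPH)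
    refine ⟨hasNormalPComplement_iff.1 hnpc, ?_⟩
    have hc := isComplement'_of_isPGroup_quotient P (hasNormalPComplement_iff.1 hnpc)
      (isPGroup_quotient_pResidual (p := q) (G := G))
    rw [hc.symm.index_eq_card, P.card_eq_multiplicity, ← card_mul_index H,
      Nat.factorization_mul Nat.card_pos.ne' index_ne_zero_of_finite]
    have : ¬ q ∣ H.index := fun hd => (Nat.prime_of_mem_primeFactors hq).not_dvd_one
      (hH ▸ Nat.dvd_gcd (Nat.dvd_of_mem_primeFactors hq) hd)
    simp [Nat.factorization_eq_zero_of_not_dvd this]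
  set N : Subgroup G := ⨅ q : ((Nat.card H).primeFactors : Finset ℕ), pResidual (q : ℕ) G with hN
  haveI hNn : N.Normal := normal_iInf_normal fun q => inferInstance
  have hdisj : N ⊓ H = ⊥ := by
    refine (eq_bot_iff_forall _).2 fun x hx => ?_
    by_contra hne
    obtain ⟨q, hq, hqd⟩ := Nat.exists_prime_and_dvd (mt orderOf_eq_one_iff.1 hne)
    haveI : Fact q.Prime := ⟨hq⟩
    have hqH : q ∈ (Nat.card H).primeFactors :=
      Nat.mem_primeFactors.2 ⟨hq, hqd.trans (H.orderOf_dvd_natCard hx.2), Nat.card_pos.ne'⟩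
    exact (key q hqH).1 (hqd.trans ((pResidual q G).orderOf_dvd_natCard
      (mem_iInf.1 hx.1 ⟨q, hqH⟩)))
  have hidx : N.index ≤ Nat.card H := by
    refine le_trans (index_iInf_le _) (le_of_eq ?_)
    conv_rhs => rw [← Nat.prod_factorization_pow_eq_self (Nat.card_pos (α := H)).ne']
    rw [Finsupp.prod, Nat.support_factorization]
    rw [← Finset.prod_coe_sort (Nat.card H).primeFactors fun q => q ^ (Nat.card H).factorization q]
    refine Finset.prod_congr rfl fun ⟨q, hq⟩ _ => ?_
    haveI : Fact q.Prime := ⟨Nat.prime_of_mem_primeFactors hq⟩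
    exact (key q hq).2
  have hinj : Nat.card H ≤ N.index := by
    rw [index_eq_card]
    refine Nat.card_le_card_of_injective ((QuotientGroup.mk' N).comp H.subtype)
      ((injective_iff_map_eq_one _).2 fun x hx => ?_)
    have : (x : G) ∈ N ⊓ H := ⟨(QuotientGroup.eq_one_iff _).1 hx, x.2⟩
    rw [hdisj, mem_bot] at this
    exact Subtype.ext this
  refine ⟨N, hNn, isComplement'_of_card_mul_and_disjoint ?_ (disjoint_iff.2 hdisj)⟩
  rw [le_antisymm hinj hidx, card_mul_index]

/-- `H` not a Sylow subgroup, equal to the normalizer of each of its Sylow subgroups. -/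
theorem exists_normal_complement_of_sylow_normalizers (H : Subgroup G)
    (hnot : ∀ p : ℕ, p.Prime → ∀ P : Sylow p G, (P : Subgroup G) ≠ H)
    (hnorm : ∀ p : ℕ, p.Prime → p ∣ Nat.card H → ∀ P : Sylow p H,
      normalizer (((P : Subgroup H).map H.subtype : Subgroup G) : Set G) = H) :
    ∃ N : Subgroup G, N.Normal ∧ N.IsComplement' H := by
  have hnormal : ∀ (p : ℕ) [Fact p.Prime] (P : Sylow p H), (P : Subgroup H).Normal := by
    intro p _ P
    by_cases hd : p ∣ Nat.card H
    · rw [← normalizer_eq_top_iff, eq_top_iff]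
      intro x _
      rw [Solvable.mem_normalizer_iff_conj_smul]
      apply map_injective H.subtype_injective
      rw [Solvable.map_subtype_conj_smul]
      exact Solvable.mem_normalizer_iff_conj_smul.mp (by rw [hnorm p Fact.out hd P]; exact x.2)
    · have : (P : Subgroup H) = ⊥ := by
        rw [← card_eq_one, P.card_eq_multiplicity, Nat.factorization_eq_zero_of_not_dvd hd,
          pow_zero]
      rw [this]; infer_instance
  have hn : Group.IsNilpotent H :=
    (Group.isNilpotent_of_finite_tfae.out 0 3).mpr fun p hpf P => by haveI := hpf; exact hnormal p P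
  have hsyl : ∀ (p : ℕ) [Fact p.Prime], p ∣ Nat.card H → ∀ S : Sylow p H,
      ∃ P : Sylow p G, (P : Subgroup G) = (S : Subgroup H).map H.subtype := by
    intro p _ hd S
    obtain ⟨P, hP⟩ := (S.2.map H.subtype).exists_le_sylow
    refine ⟨P, le_antisymm ?_ hP⟩
    intro x hx
    by_contra hne
    set A := ((S : Subgroup H).map H.subtype).subgroupOf (P : Subgroup G) with hA
    have hlt : A < ⊤ := lt_top_iff_ne_top.mpr fun h => hne (subgroupOf_eq_top.mp h hx)
    have := P.2.isNilpotent
    obtain ⟨y, hy, hy'⟩ :=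
      SetLike.exists_of_lt (Group.normalizerCondition_of_isNilpotent A hlt)
    refine hy' ?_
    have hyH : (y : G) ∈ H := by
      rw [← hnorm p Fact.out hd S, Solvable.mem_normalizer_iff_conj_smul]
      have h := congrArg (Subgroup.map (P : Subgroup G).subtype)
        (Solvable.mem_normalizer_iff_conj_smul.mp hy)
      rwa [Solvable.map_subtype_conj_smul, map_subgroupOf_eq_of_le hP] at h
    -- the `p`-element `y` of `H` lies in the normal Sylow subgroup
    have hyp : IsPGroup p ((zpowers (y : G)).subgroupOf H) :=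
      (P.2.to_le (zpowers_le.mpr y.2)).of_equiv
        (subgroupOfEquivOfLe (zpowers_le.mpr hyH)).symm
    obtain ⟨S', hS'⟩ := hyp.exists_le_sylow
    have : Subsingleton (Sylow p H) := by
      haveI := hnormal p S
      have := S.unique_of_normal inferInstance
      infer_instance
    rw [Subsingleton.elim S' S] at hS'
    exact ⟨⟨y, hyH⟩, hS' (mem_zpowers (y : G) : (y : G) ∈ _), rfl⟩
  have hHall : Nat.Coprime (Nat.card H) H.index := Nat.coprime_of_dvd fun p hp hd hdi => by
    haveI := Fact.mk hp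
    obtain ⟨S⟩ : Nonempty (Sylow p H) := inferInstance
    obtain ⟨P, hP⟩ := hsyl p hd S
    exact P.not_dvd_index (hdi.trans (index_dvd_of_le (hP ▸ map_subtype_le _)))
  refine exists_normal_complement_of_sylow_fusion H hn hHall fun p hp hd _ P hPH => ?_
  obtain ⟨q, hq, hqd, hqp⟩ : ∃ q : ℕ, q.Prime ∧ q ∣ Nat.card H ∧ q ≠ p := by
    by_contra hcon
    refine hnot p hp P (eq_of_le_of_card_ge hPH (Nat.le_of_dvd Nat.card_pos ?_))
    rw [P.card_eq_multiplicity]
    have h1 : Nat.card H = p ^ (Nat.card H).primeFactorsList.length :=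
      Nat.eq_prime_pow_of_unique_prime_dvd Nat.card_pos.ne' fun {d} hd' hdd =>
        by_contra fun hne => hcon ⟨d, hd', hdd, hne⟩
    rw [h1]
    refine pow_dvd_pow p ((hp.pow_dvd_iff_le_factorization Nat.card_pos.ne').mp ?_)
    rw [← h1]
    exact card_subgroup_dvd_card H
  haveI := Fact.mk hq
  obtain ⟨Q, H₀, hQH, hH₀H, hH₀C, hsup, hcard⟩ :=
    exists_nilpotent_hall_decomposition (p := q) H hn hHall hqd
  have hNQ : normalizer ((Q : Subgroup G) : Set G) = H := by
    have e : (Q : Subgroup G) = ((Q.subtype hQH : Sylow q H) : Subgroup H).map H.subtype := by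
      rw [Sylow.coe_subtype, map_subgroupOf_eq_of_le hQH]
    rw [e]; exact hnorm q hq hqd _
  -- `Q` centralises `P`
  have hPQ : ∀ x ∈ (P : Subgroup G), (Q : Subgroup G) ≤ centralizer ({x} : Set G) := by
    intro x hx a ha b hb
    rw [Set.mem_singleton_iff.1 hb]
    have hxN : (⟨x, hPH hx⟩ : H) ∈ ((P.subtype hPH : Sylow p H) : Subgroup H) := hx
    have haN : (⟨a, hQH ha⟩ : H) ∈ ((Q.subtype hQH : Sylow q H) : Subgroup H) := ha
    exact congrArg Subtype.val (commute_of_normal_of_disjoint _ _ (hnormal p _) (hnormal q _)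
      (IsPGroup.disjoint_of_ne p q hqp.symm _ _ (P.subtype hPH).2 (Q.subtype hQH).2)
      _ _ hxN haN).eq
  intro x hx g hg
  obtain ⟨n, hn', hnx⟩ := exists_mem_normalizer_conj_of_weaklyClosed Q (isWeaklyClosed_self _)
    (X := {x}) (g := g) (hPQ x hx) (by rw [Set.image_singleton]; exact hPQ _ hg)
  rw [hNQ] at hn'
  obtain ⟨P', H₁, hP'H, -, hH₁C, hsup', -⟩ :=
    exists_nilpotent_hall_decomposition (p := p) H hn hHall hd
  have hPP' : P' = P := by
    refine Sylow.subtype_injective (hP := hP'H) (hQ := hPH) ?_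
    haveI := hnormal p (P.subtype hPH)
    have := (P.subtype hPH).unique_of_normal inferInstance
    exact Subsingleton.elim _ _
  subst hPP'
  rw [← hsup', ← SetLike.mem_coe, coe_mul_of_right_le_normalizer_left (P' : Subgroup G) H₁
    (hH₁C.trans (centralizer_le_normalizer _))] at hn'
  obtain ⟨a, ha, b, hb, rfl⟩ := hn'
  refine ⟨a, ha, ?_⟩
  rw [← hnx x rfl]
  have := hH₁C hb x hx
  calc a * x * a⁻¹ = a * (x * b) * b⁻¹ * a⁻¹ := by group
    _ = a * b * x * (a * b)⁻¹ := by rw [this]; group

end CfsgLib.Transfer
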